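import Cfsg.Agent.Lib.Classical.SpComm.Engine

/-!
# Admissible diagonal blocks over every finite field
-/

set_option autoImplicit false
set_option linter.unusedSectionVars false

namespace CfsgLib.SpComm

open Matrix Polynomial

variable {F : Type*} [Field F] {ι κ : Type*} [Fintype ι] [DecidableEq ι] [Fintype κ] [DecidableEq κ]

/-- `diag(-1, -1, 1, …, 1)`. -/
abbrev sgnMat (F : Type*) [Field F] (j : ℕ) : Matrix (Fin 2 ⊕ Fin j) (Fin 2 ⊕ Fin j) F :=
  fromBlocks (-1 : Matrix (Fin 2) (Fin 2) F) 0 0 (1 : Matrix (Fin j) (Fin j) F)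

theorem aeval_fromBlocks (A : Matrix ι ι F) (D : Matrix κ κ F) (h : F[X]) :
    aeval (fromBlocks A 0 0 D) h = fromBlocks (aeval A h) 0 0 (aeval D h) := by
  induction h using Polynomial.induction_on' with
  | add p q hp hq => simp [hp, hq, fromBlocks_add]
  | monomial n c =>
    simp only [aeval_monomial, ← Algebra.smul_def]
    have e : fromBlocks A 0 0 D ^ n = fromBlocks (A ^ n) 0 0 (D ^ n) := by
      induction n with
      | zero => simp [fromBlocks_one]
      | succ n ih => rw [pow_succ, ih, fromBlocks_multiply, pow_succ, pow_succ]; simp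
    rw [e, fromBlocks_smul, smul_zero, smul_zero]

theorem isUnit_fromBlocks_diag {A : Matrix ι ι F} {D : Matrix κ κ F} (hA : IsUnit A) (hD : IsUnit D) :
    IsUnit (fromBlocks A 0 0 D) := by
  rw [isUnit_iff_isUnit_det, det_fromBlocks_zero₁₂]
  exact ((isUnit_iff_isUnit_det A).1 hA).mul ((isUnit_iff_isUnit_det D).1 hD)

theorem inv_fromBlocks_diag {A : Matrix ι ι F} {D : Matrix κ κ F} (hA : IsUnit A) (hD : IsUnit D) :
    (fromBlocks A 0 0 D)⁻¹ = fromBlocks A⁻¹ 0 0 D⁻¹ := by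
  refine inv_eq_right_inv ?_
  rw [fromBlocks_multiply]
  simp [mul_nonsing_inv _ ((isUnit_iff_isUnit_det A).1 hA), mul_nonsing_inv _ ((isUnit_iff_isUnit_det D).1 hD),
    fromBlocks_one]

theorem OkH.sum {h : F[X]} {A : Matrix ι ι F} {D : Matrix κ κ F} (hA : OkH h A) (hD : OkH h D) :
    OkH h (fromBlocks A 0 0 D) := by
  obtain ⟨x, P, hx, ⟨hP, hP0, hP1⟩, rfl⟩ := hA
  obtain ⟨y, Q, hy, ⟨hQ, hQ0, hQ1⟩, rfl⟩ := hD
  refine ⟨fromBlocks x 0 0 y, fromBlocks P 0 0 Q, isUnit_fromBlocks_diag hx hy,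
    ⟨isUnit_fromBlocks_diag hP hQ, ?_, ?_⟩, ?_⟩
  · rw [aeval_fromBlocks, hP0, hQ0, fromBlocks_zero]
  · rw [inv_fromBlocks_diag hP hQ, aeval_fromBlocks]
    exact isUnit_fromBlocks_diag hP1 hQ1
  · rw [inv_fromBlocks_diag hx hy, inv_fromBlocks_diag hP hQ]
    simp [fromBlocks_multiply]

theorem OkH.equiv {h : F[X]} {A : Matrix ι ι F} (hA : OkH h A) (σ : κ ≃ ι) : OkH h (A.submatrix σ σ) := by
  obtain ⟨x, P, hx, ⟨hP, hP0, hP1⟩, rfl⟩ := hA
  let Φ : Matrix ι ι F ≃ₐ[F] Matrix κ κ F := Matrix.reindexAlgEquiv F F σ.symm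
  have hΦ : ∀ M, Φ M = M.submatrix σ σ := fun M => by simp [Φ, reindexAlgEquiv_apply]
  have hinv : ∀ M : Matrix ι ι F, Φ M⁻¹ = (Φ M)⁻¹ := fun M => by
    rw [hΦ, hΦ, inv_submatrix_equiv]
  have hae : ∀ M : Matrix ι ι F, aeval (Φ M) h = Φ (aeval M h) := fun M =>
    (Polynomial.aeval_algHom_apply Φ.toAlgHom M h)
  refine ⟨Φ x, Φ P, hx.map Φ, ⟨hP.map Φ, ?_, ?_⟩, ?_⟩
  · rw [hae, hP0, map_zero]
  · rw [← hinv, hae]; exact hP1.map Φ
  · rw [← hΦ, map_mul, map_mul, map_mul, hinv, hinv]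

theorem aeval_map_hom {K : Type*} [Field K] (φ : K →+* F) (M : Matrix ι ι K) (h : K[X]) :
    aeval (M.map φ) (h.map φ) = (aeval M h).map φ := by
  induction h using Polynomial.induction_on' with
  | add p q hp hq => rw [Polynomial.map_add, map_add, map_add, hp, hq, Matrix.map_add _ (map_add φ)]
  | monomial n c =>
    rw [Polynomial.map_monomial, aeval_monomial, aeval_monomial, ← Algebra.smul_def, ← Algebra.smul_def,
      ← RingHom.mapMatrix_apply, ← RingHom.mapMatrix_apply, ← map_pow]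
    ext i j
    simp

theorem OkH.map {K : Type*} [Field K] (φ : K →+* F) {h : K[X]} {A : Matrix ι ι K} (hA : OkH h A) :
    OkH (h.map φ) (A.map φ) := by
  obtain ⟨x, P, hx, ⟨hP, hP0, hP1⟩, rfl⟩ := hA
  have hinv : ∀ M : Matrix ι ι K, IsUnit M → M⁻¹.map φ = (M.map φ)⁻¹ := fun M hM => by
    refine (inv_eq_right_inv ?_).symm
    rw [← Matrix.map_mul, mul_nonsing_inv _ ((isUnit_iff_isUnit_det M).1 hM), Matrix.map_one _ φ.map_zero φ.map_one]
  refine ⟨x.map φ, P.map φ, hx.map φ.mapMatrix, ⟨hP.map φ.mapMatrix, ?_, ?_⟩, ?_⟩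
  · rw [aeval_map_hom, hP0, Matrix.map_zero _ φ.map_zero]
  · rw [← hinv P hP, aeval_map_hom]
    exact hP1.map φ.mapMatrix
  · rw [Matrix.map_mul, Matrix.map_mul, Matrix.map_mul, hinv x hx, hinv P hP]

theorem okH_empty (h : F[X]) {n : ℕ} (hn : n = 0) : OkH h (1 : Matrix (Fin n) (Fin n) F) := by
  subst hn
  exact ⟨1, 1, isUnit_one, ⟨isUnit_one, Subsingleton.elim _ _, ⟨⟨1, 1, Subsingleton.elim _ _, Subsingleton.elim _ _⟩,
    Subsingleton.elim _ _⟩⟩, Subsingleton.elim _ _⟩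

/-- Building from explicit inverses. -/
theorem okH_of_witness {h : F[X]} {A : Matrix ι ι F} (x xi P Pi : Matrix ι ι F) (hx : x * xi = 1)
    (hP : P * Pi = 1) (h0 : aeval P h = 0) (h1 : (aeval Pi h).det ≠ 0) (e : x * P = A * P * x) :
    OkH h A := by
  have hxu : IsUnit x := (isUnit_iff_isUnit_det x).2 (IsUnit.of_mul_eq_one xi.det (by rw [← det_mul, hx, det_one]))
  have hPu : IsUnit P := (isUnit_iff_isUnit_det P).2 (IsUnit.of_mul_eq_one Pi.det (by rw [← det_mul, hP, det_one]))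
  refine ⟨x, P, hxu, ⟨hPu, h0, ?_⟩, ?_⟩
  · rw [inv_eq_right_inv hP]
    exact (isUnit_iff_isUnit_det _).2 (isUnit_iff_ne_zero.2 h1)
  · rw [e, Matrix.mul_assoc (A * P) x, mul_nonsing_inv _ ((isUnit_iff_isUnit_det x).1 hxu), Matrix.mul_one,
      Matrix.mul_assoc, mul_nonsing_inv _ ((isUnit_iff_isUnit_det P).1 hPu), Matrix.mul_one]

theorem okH_one_add {h : F[X]} {a b : ℕ} (ha : OkH h (1 : Matrix (Fin a) (Fin a) F))
    (hb : OkH h (1 : Matrix (Fin b) (Fin b) F)) : OkH h (1 : Matrix (Fin (a + b)) (Fin (a + b)) F) := by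
  simpa [fromBlocks_one] using (ha.sum hb).equiv finSumFinEquiv.symm

theorem okH_sgn_add {h : F[X]} {a b : ℕ} (ha : OkH h (sgnMat F a))
    (hb : OkH h (1 : Matrix (Fin b) (Fin b) F)) : OkH h (sgnMat F (a + b)) := by
  have := (ha.sum hb).equiv
    ((Equiv.sumCongr (Equiv.refl (Fin 2)) finSumFinEquiv.symm).trans (Equiv.sumAssoc _ _ _).symm)
  convert this using 1
  ext i j
  rcases i with i | i
  · rcases j with j | j
    · simp
    · refine Fin.addCases (fun j => ?_) (fun j => ?_) j <;> simp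
  · rcases j with j | j
    · refine Fin.addCases (fun i => ?_) (fun i => ?_) i <;> simp
    · refine Fin.addCases (fun i => ?_) (fun i => ?_) i <;> refine Fin.addCases (fun j => ?_) (fun j => ?_) j <;>
        simp [Matrix.one_apply, Fin.ext_iff] <;> omega

/-! ### Fields with at least four elements -/

theorem exists_okH_large [Fintype F] (hq : 4 ≤ Fintype.card F) :
    ∃ h : F[X], (∀ m, OkH h (1 : Matrix (Fin m) (Fin m) F)) ∧
      ((2 : F) ≠ 0 → ∀ j, OkH h (sgnMat F j)) := by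
  classical
  obtain ⟨t, ht⟩ := IsCyclic.exists_generator (α := Fˣ)
  have hord : orderOf t = Fintype.card F - 1 := by
    rw [orderOf_eq_card_of_forall_mem_zpowers ht, Nat.card_eq_fintype_card, Fintype.card_units]
  have hne : ∀ n : ℕ, 0 < n → n < Fintype.card F - 1 → ((t : F) ^ n ≠ 1) := by
    intro n h0 h1 e
    have : t ^ n = 1 := Units.ext (by simpa using e)
    have := Nat.le_of_dvd h0 (orderOf_dvd_of_pow_eq_one this)
    omega
  set c : F := (t : F) with hc
  have hc0 : c ≠ 0 := t.ne_zero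
  have hc2 : c ^ 2 ≠ 1 := hne 2 two_pos (by omega)
  have hc1 : c⁻¹ - c ≠ 0 := fun e => hc2 (by field_simp at e; linear_combination -e)
  by_cases h2 : (2 : F) = 0
  · refine ⟨Polynomial.X - C c, fun m => ?_, fun h => absurd h2 h⟩
    have hscal : OkH (Polynomial.X - C c) (1 : Matrix (Fin 1) (Fin 1) F) := by
      refine okH_of_witness 1 1 (c • 1) (c⁻¹ • 1) (mul_one 1) ?_ ?_ ?_ (by simp)
      · rw [smul_mul_smul_comm, mul_inv_cancel₀ hc0, one_smul, mul_one]
      · simp [Algebra.algebraMap_eq_smul_one]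
      · simpa [Algebra.algebraMap_eq_smul_one] using hc1
    induction m with
    | zero => exact okH_empty _ rfl
    | succ m ih => exact okH_one_add ih hscal
  · have hodd : 5 ≤ Fintype.card F := by
      rcases Nat.lt_or_ge 4 (Fintype.card F) with h4 | h4
      · omega
      · exfalso
        have h4' : Fintype.card F = 4 := by omega
        have h0 : (4 : F) = 0 := by
          have := FiniteField.cast_card_eq_zero F
          rw [h4'] at this; exact_mod_cast this
        exact h2 (mul_self_eq_zero.1 (by linear_combination h0))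
    have h3 : c ^ 3 ≠ 1 := hne 3 (by norm_num) (by omega)
    set h : F[X] := (Polynomial.X ^ 2 - C c) * (Polynomial.X - C c) with hh
    have hscal : OkH h (1 : Matrix (Fin 1) (Fin 1) F) := by
      refine okH_of_witness 1 1 (c • 1) (c⁻¹ • 1) (mul_one 1) ?_ ?_ ?_ (by simp)
      · rw [smul_mul_smul_comm, mul_inv_cancel₀ hc0, one_smul, mul_one]
      · simp [hh, Algebra.algebraMap_eq_smul_one]
      · simp only [hh, map_mul, map_sub, map_pow, aeval_X, aeval_C, Algebra.algebraMap_eq_smul_one, _root_.smul_pow,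
          one_pow, ← sub_smul, det_mul, det_smul, det_one, mul_one, Fintype.card_fin, pow_one]
        refine mul_ne_zero (fun e => h3 ?_) hc1
        field_simp at e; linear_combination -e
    refine ⟨h, fun m => ?_, fun _ j => ?_⟩
    · induction m with
      | zero => exact okH_empty h rfl
      | succ m ih => exact okH_one_add ih hscal
    have base : OkH h (sgnMat F 0) := by
      have h22 : OkH h (-1 : Matrix (Fin 2) (Fin 2) F) := by
        refine okH_of_witness !![1, 0; 0, -1] !![1, 0; 0, -1] !![0, c; 1, 0] !![0, 1; c⁻¹, 0] ?_ ?_ ?_ ?_ ?_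
        · ext i j; fin_cases i <;> fin_cases j <;> simp
        · ext i j; fin_cases i <;> fin_cases j <;> simp [hc0]
        · simp only [hh, map_mul, map_sub, map_pow, aeval_X, aeval_C, Algebra.algebraMap_eq_smul_one, pow_two]
          rw [show !![(0 : F), c; 1, 0] * !![0, c; 1, 0] - c • 1 = 0 by
            ext i j; fin_cases i <;> fin_cases j <;> simp, Matrix.zero_mul]
        · simp only [hh, map_mul, map_sub, map_pow, aeval_X, aeval_C, Algebra.algebraMap_eq_smul_one, pow_two,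
            det_mul]
          refine mul_ne_zero ?_ ?_
          · rw [det_fin_two]; simp
            intro e
            field_simp at e
            exact hc2 (by linear_combination -e)
          · rw [det_fin_two]; simp
            intro e
            field_simp at e
            exact h3 (by linear_combination e)
        · ext i j; fin_cases i <;> fin_cases j <;> simp
      simpa [sgnMat] using h22.sum (okH_empty h rfl)
    induction j with
    | zero => exact base
    | succ j ih => exact okH_sgn_add ih hscal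

/-! ### Three elements -/

/-- The polynomial used over three elements. -/
noncomputable def h3 : (ZMod 3)[X] :=
  (Polynomial.X ^ 2 + Polynomial.X + C 2) ^ 2 * (Polynomial.X ^ 3 + C 2 * Polynomial.X ^ 2 + 1)

theorem aeval_h3 {n : Type} [Fintype n] [DecidableEq n] (P : Matrix n n (ZMod 3)) :
    aeval P h3 = (P ^ 2 + P + (2 : ZMod 3) • 1) ^ 2 * (P ^ 3 + (2 : ZMod 3) • P ^ 2 + 1) := by
  simp only [h3, map_mul, map_add, map_pow, map_one, aeval_X, aeval_C, Algebra.algebraMap_eq_smul_one,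
    Matrix.smul_mul, Matrix.one_mul]

theorem okH_three_pair : OkH h3 (1 : Matrix (Fin 2) (Fin 2) (ZMod 3)) :=
  okH_of_witness 1 1 !![0, 1; 1, 2] !![1, 1; 1, 0] (mul_one 1) (by decide +kernel)
    (by rw [aeval_h3]; decide +kernel) (by rw [aeval_h3]; decide +kernel) (by simp)

theorem okH_three_triple : OkH h3 (1 : Matrix (Fin 3) (Fin 3) (ZMod 3)) :=
  okH_of_witness 1 1 !![0, 1, 2; 0, 0, 2; 1, 2, 1] !![1, 0, 1; 1, 2, 0; 0, 2, 0] (mul_one 1)
    (by decide +kernel) (by rw [aeval_h3]; decide +kernel) (by rw [aeval_h3]; decide +kernel) (by simp)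

theorem okH_three_sgn_one : OkH h3 (sgnMat (ZMod 3) 1) := by
  have : OkH h3 (!![-1, 0, 0; 0, -1, 0; 0, 0, 1] : Matrix (Fin 3) (Fin 3) (ZMod 3)) :=
    okH_of_witness !![1, 0, 1; 1, 2, 2; 2, 2, 2] !![0, 2, 1; 2, 0, 2; 1, 1, 2]
      !![0, 1, 2; 0, 0, 2; 1, 2, 1] !![1, 0, 1; 1, 2, 0; 0, 2, 0] (by decide +kernel)
      (by decide +kernel) (by rw [aeval_h3]; decide +kernel) (by rw [aeval_h3]; decide +kernel)
      (by decide +kernel)
  convert this.equiv (finSumFinEquiv (m := 2) (n := 1)) using 1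
  decide +kernel

theorem okH_three_sgn_two : OkH h3 (sgnMat (ZMod 3) 2) := by
  have : OkH h3 (!![-1, 0, 0, 0; 0, -1, 0, 0; 0, 0, 1, 0; 0, 0, 0, 1] : Matrix (Fin 4) (Fin 4) (ZMod 3)) :=
    okH_of_witness !![1, 2, 0, 2; 1, 2, 1, 2; 0, 1, 1, 0; 1, 0, 1, 0]
      !![1, 2, 0, 1; 1, 2, 1, 0; 2, 1, 0, 0; 2, 0, 2, 1]
      !![2, 2, 0, 0; 1, 1, 1, 2; 0, 0, 1, 1; 2, 0, 1, 0]
      !![2, 2, 2, 2; 0, 1, 1, 1; 2, 2, 2, 0; 1, 1, 2, 0] (by decide +kernel)
      (by decide +kernel) (by rw [aeval_h3]; decide +kernel) (by rw [aeval_h3]; decide +kernel)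
      (by decide +kernel)
  convert this.equiv (finSumFinEquiv (m := 2) (n := 2)) using 1
  decide +kernel

theorem exists_okH_three [Fintype F] (hq : Fintype.card F = 3) :
    ∃ h : F[X], (∀ m, 2 ≤ m → OkH h (1 : Matrix (Fin m) (Fin m) F)) ∧
      ∀ j, 1 ≤ j → OkH h (sgnMat F j) := by
  haveI : Fact (Nat.Prime 3) := ⟨Nat.prime_three⟩
  haveI : CharP F 3 := charP_of_card_eq_prime hq
  let φ : ZMod 3 →+* F := ZMod.castHom dvd_rfl F
  have one : ∀ m, 2 ≤ m → OkH h3 (1 : Matrix (Fin m) (Fin m) (ZMod 3)) := by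
    intro m
    induction m using Nat.strong_induction_on with
    | _ m ih =>
      intro hm
      rcases (by omega : m = 2 ∨ m = 3 ∨ 4 ≤ m) with rfl | rfl | h
      · exact okH_three_pair
      · exact okH_three_triple
      · obtain ⟨r, rfl⟩ : ∃ r, m = r + 2 := ⟨m - 2, by omega⟩
        exact okH_one_add (ih r (by omega) (by omega)) okH_three_pair
  have sgn : ∀ j, 1 ≤ j → OkH h3 (sgnMat (ZMod 3) j) := by
    intro j
    induction j using Nat.strong_induction_on with
    | _ j ih =>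
      intro hj
      rcases (by omega : j = 1 ∨ j = 2 ∨ 3 ≤ j) with rfl | rfl | h
      · exact okH_three_sgn_one
      · exact okH_three_sgn_two
      · obtain ⟨r, rfl⟩ : ∃ r, j = r + 2 := ⟨j - 2, by omega⟩
        exact okH_sgn_add (ih r (by omega) (by omega)) okH_three_pair
  refine ⟨h3.map φ, fun m hm => ?_, fun j hj => ?_⟩
  · simpa [Matrix.map_one _ φ.map_zero φ.map_one] using (one m hm).map φ
  · have e : (sgnMat (ZMod 3) j).map φ = sgnMat F j := by
      simp [sgnMat, fromBlocks_map, Matrix.map_one _ φ.map_zero φ.map_one, Matrix.map_neg _ (map_neg φ)]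
    exact e ▸ (sgn j hj).map φ

/-! ### Two elements -/

/-- The polynomial used over two elements. -/
noncomputable def h2 : (ZMod 2)[X] :=
  (Polynomial.X ^ 3 + Polynomial.X + 1) * (Polynomial.X ^ 4 + Polynomial.X + 1) *
    (Polynomial.X ^ 5 + Polynomial.X ^ 2 + 1)

theorem aeval_h2 {n : Type} [Fintype n] [DecidableEq n] (P : Matrix n n (ZMod 2)) :
    aeval P h2 = (P ^ 3 + P + 1) * (P ^ 4 + P + 1) * (P ^ 5 + P ^ 2 + 1) := by
  simp only [h2, map_mul, map_add, map_pow, map_one, aeval_X]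

theorem okH_two_three : OkH h2 (1 : Matrix (Fin 3) (Fin 3) (ZMod 2)) :=
  okH_of_witness 1 1 !![0, 0, 1; 1, 0, 1; 0, 1, 0] !![1, 1, 0; 0, 0, 1; 1, 0, 0] (mul_one 1)
    (by decide +kernel) (by rw [aeval_h2]; decide +kernel) (by rw [aeval_h2]; decide +kernel) (by simp)

theorem okH_two_four : OkH h2 (1 : Matrix (Fin 4) (Fin 4) (ZMod 2)) :=
  okH_of_witness 1 1 !![0, 0, 0, 1; 1, 0, 0, 1; 0, 1, 0, 0; 0, 0, 1, 0]
    !![1, 1, 0, 0; 0, 0, 1, 0; 0, 0, 0, 1; 1, 0, 0, 0] (mul_one 1)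
    (by decide +kernel) (by rw [aeval_h2]; decide +kernel) (by rw [aeval_h2]; decide +kernel) (by simp)

theorem okH_two_five : OkH h2 (1 : Matrix (Fin 5) (Fin 5) (ZMod 2)) :=
  okH_of_witness 1 1 !![0, 0, 0, 0, 1; 1, 0, 0, 0, 0; 0, 1, 0, 0, 1; 0, 0, 1, 0, 0; 0, 0, 0, 1, 0]
    !![0, 1, 0, 0, 0; 1, 0, 1, 0, 0; 0, 0, 0, 1, 0; 0, 0, 0, 0, 1; 1, 0, 0, 0, 0] (mul_one 1)
    (by decide +kernel) (by rw [aeval_h2]; decide +kernel) (by rw [aeval_h2]; decide +kernel) (by simp)

theorem exists_okH_two [Fintype F] (hq : Fintype.card F = 2) :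
    ∃ h : F[X], ∀ m, 3 ≤ m → OkH h (1 : Matrix (Fin m) (Fin m) F) := by
  haveI : Fact (Nat.Prime 2) := ⟨Nat.prime_two⟩
  haveI : CharP F 2 := charP_of_card_eq_prime hq
  let φ : ZMod 2 →+* F := ZMod.castHom dvd_rfl F
  have one : ∀ m, 3 ≤ m → OkH h2 (1 : Matrix (Fin m) (Fin m) (ZMod 2)) := by
    intro m
    induction m using Nat.strong_induction_on with
    | _ m ih =>
      intro hm
      rcases (by omega : m = 3 ∨ m = 4 ∨ m = 5 ∨ 6 ≤ m) with rfl | rfl | rfl | h
      · exact okH_two_three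
      · exact okH_two_four
      · exact okH_two_five
      · obtain ⟨r, rfl⟩ : ∃ r, m = r + 3 := ⟨m - 3, by omega⟩
        exact okH_one_add (ih r (by omega) (by omega)) okH_two_three
  refine ⟨h2.map φ, fun m hm => ?_⟩
  simpa [Matrix.map_one _ φ.map_zero φ.map_one] using (one m hm).map φ

end CfsgLib.SpComm
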