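import Mathlib

/-!
# Commutators of isometries of an alternating form, supported on a subspace

`CommOn B U g` says that on `U` the map `g` is a commutator of two isometries which are the
identity on the orthogonal complement of `U`. It is additive over orthogonal sums; a symplectic
frame of `U` reduces it to a matrix equation.
-/

set_option autoImplicit false
set_option linter.unusedSectionVars false

namespace CfsgLib.SpComm

open Matrix

variable {F V : Type*} [Field F] [AddCommGroup V] [Module F V]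
variable (B : LinearMap.BilinForm F V)

/-- The elements orthogonal to `U`. -/
def perp (U : Submodule F V) : Submodule F V where
  carrier := {x | ∀ u ∈ U, B x u = 0}
  add_mem' {a b} ha hb u hu := by simp [ha u hu, hb u hu]
  zero_mem' u _ := by simp
  smul_mem' c x hx u hu := by simp [hx u hu]

theorem mem_perp {U : Submodule F V} {x : V} : x ∈ perp B U ↔ ∀ u ∈ U, B x u = 0 := Iff.rfl

/-- `B` is nondegenerate on `U`. -/
def NDOn (U : Submodule F V) : Prop := ∀ x ∈ U, (∀ y ∈ U, B x y = 0) → x = 0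

/-- `U` is stable under `g`. -/
def Stab (U : Submodule F V) (g : V ≃ₗ[F] V) : Prop := ∀ x ∈ U, g x ∈ U

/-- `g` preserves `B`. -/
def Isom (g : V ≃ₗ[F] V) : Prop := ∀ x y, B (g x) (g y) = B x y

/-- An isometry living on `U`. -/
structure IsomOn (U : Submodule F V) (a : V ≃ₗ[F] V) : Prop where
  isom : Isom B a
  fix : ∀ x ∈ perp B U, a x = x
  mem : ∀ x ∈ U, a x ∈ U

/-- `g` is a commutator on `U`. -/
def CommOn (U : Submodule F V) (g : V ≃ₗ[F] V) : Prop :=
  ∃ a b : V ≃ₗ[F] V, IsomOn B U a ∧ IsomOn B U b ∧ ∀ x ∈ U, g (b (a x)) = a (b x)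

theorem commOn_bot (g : V ≃ₗ[F] V) : CommOn B ⊥ g :=
  ⟨1, 1, ⟨fun _ _ => rfl, fun _ _ => rfl, fun _ h => h⟩, ⟨fun _ _ => rfl, fun _ _ => rfl, fun _ h => h⟩,
    fun x hx => by rw [(Submodule.mem_bot F).1 hx]; simp⟩

theorem perp_anti {U U' : Submodule F V} (h : U ≤ U') : perp B U' ≤ perp B U :=
  fun _ hx u hu => hx u (h hu)

theorem CommOn.sup {U₁ U₂ : Submodule F V} {g : V ≃ₗ[F] V} (h₁ : CommOn B U₁ g) (h₂ : CommOn B U₂ g)
    (h12 : ∀ x ∈ U₁, ∀ y ∈ U₂, B x y = 0) (h21 : ∀ x ∈ U₁, ∀ y ∈ U₂, B y x = 0) :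
    CommOn B (U₁ ⊔ U₂) g := by
  obtain ⟨a₁, b₁, ha₁, hb₁, e₁⟩ := h₁
  obtain ⟨a₂, b₂, ha₂, hb₂, e₂⟩ := h₂
  have p1 : ∀ x ∈ U₁, x ∈ perp B U₂ := fun x hx y hy => h12 x hx y hy
  have p2 : ∀ x ∈ U₂, x ∈ perp B U₁ := fun x hx y hy => h21 y hy x hx
  have comb : ∀ {u₁ u₂ : V ≃ₗ[F] V}, IsomOn B U₁ u₁ → IsomOn B U₂ u₂ →
      IsomOn B (U₁ ⊔ U₂) (u₂.trans u₁) ∧ (∀ x ∈ U₁, u₁ (u₂ x) = u₁ x) ∧
        (∀ x ∈ U₂, u₁ (u₂ x) = u₂ x) := by
    intro u₁ u₂ hu₁ hu₂
    have f1 : ∀ x ∈ U₁, u₁ (u₂ x) = u₁ x := fun x hx => by rw [hu₂.fix x (p1 x hx)]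
    have f2 : ∀ x ∈ U₂, u₁ (u₂ x) = u₂ x := fun x hx => hu₁.fix _ (p2 _ (hu₂.mem x hx))
    refine ⟨⟨fun x y => ?_, fun x hx => ?_, fun x hx => ?_⟩, f1, f2⟩
    · simp only [LinearEquiv.trans_apply]
      rw [hu₁.isom, hu₂.isom]
    · simp only [LinearEquiv.trans_apply]
      rw [hu₂.fix x (perp_anti B le_sup_right hx), hu₁.fix x (perp_anti B le_sup_left hx)]
    · obtain ⟨y, hy, z, hz, rfl⟩ := Submodule.mem_sup.1 hx
      simp only [LinearEquiv.trans_apply, map_add]
      rw [f1 y hy, f2 z hz]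
      exact Submodule.add_mem_sup (hu₁.mem y hy) (hu₂.mem z hz)
  obtain ⟨hA, a1, a2⟩ := comb ha₁ ha₂
  obtain ⟨hB, b1, b2⟩ := comb hb₁ hb₂
  refine ⟨_, _, hA, hB, fun x hx => ?_⟩
  obtain ⟨y, hy, z, hz, rfl⟩ := Submodule.mem_sup.1 hx
  simp only [LinearEquiv.trans_apply, map_add]
  rw [a1 y hy, a2 z hz, b1 _ (ha₁.mem y hy), b2 _ (ha₂.mem z hz), b1 y hy, b2 z hz,
    a1 _ (hb₁.mem y hy), a2 _ (hb₂.mem z hz), e₁ y hy, e₂ z hz]

variable {ι : Type*} [Fintype ι] [DecidableEq ι]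

/-- A symplectic frame spanning `U`. -/
structure Frame (U : Submodule F V) (P : ι ⊕ ι → V) : Prop where
  mem : ∀ k, P k ∈ U
  gram : ∀ k l, B (P k) (P l) = J ι F k l
  span : U ≤ Submodule.span F (Set.range P)

/-- Coordinates in a frame. -/
def coord (P : ι ⊕ ι → V) : V →ₗ[F] (ι ⊕ ι → F) :=
  (J ι F).mulVecLin ∘ₗ LinearMap.pi fun l => B.flip (P l)

/-- Linear combination of a frame. -/
def comb (P : ι ⊕ ι → V) : (ι ⊕ ι → F) →ₗ[F] V := Fintype.linearCombination F P

variable {B}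
variable {U : Submodule F V} {P : ι ⊕ ι → V}

theorem form_comb_left (c : ι ⊕ ι → F) (y : V) :
    B (comb P c) y = c ⬝ᵥ fun k => B (P k) y := by
  simp [comb, Fintype.linearCombination_apply, map_sum, dotProduct]

theorem form_comb_right (x : V) (c : ι ⊕ ι → F) :
    B x (comb P c) = (fun k => B x (P k)) ⬝ᵥ c := by
  simp [comb, Fintype.linearCombination_apply, map_sum, dotProduct, mul_comm]

theorem Frame.form_comb (hP : Frame B U P) (c d : ι ⊕ ι → F) :
    B (comb P c) (comb P d) = c ⬝ᵥ (J ι F *ᵥ d) := by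
  rw [form_comb_left]
  congr 1
  funext k
  rw [form_comb_right]
  simp only [hP.gram]
  rfl

theorem coord_apply (x : V) : coord B P x = J ι F *ᵥ fun l => B x (P l) := rfl

theorem row_eq (x : V) : (fun l => B x (P l)) = -(J ι F *ᵥ coord B P x) := by
  rw [coord_apply, mulVec_mulVec, J_squared, neg_mulVec, one_mulVec, neg_neg]

theorem Frame.coord_comb (hP : Frame B U P) (c : ι ⊕ ι → F) : coord B P (comb P c) = c := by
  have h : (fun l => B (comb P c) (P l)) = c ᵥ* J ι F := by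
    funext l
    rw [form_comb_left]
    simp only [hP.gram]
    rfl
  rw [coord_apply, h, ← mulVec_transpose, mulVec_mulVec, J_transpose, Matrix.mul_neg, J_squared,
    neg_neg, one_mulVec]

theorem Frame.comb_coord (hP : Frame B U P) {x : V} (hx : x ∈ U) : comb P (coord B P x) = x := by
  have : x ∈ LinearMap.range (comb (F := F) P) := by
    rw [comb, Fintype.range_linearCombination]
    exact hP.span hx
  obtain ⟨c, rfl⟩ := this
  rw [hP.coord_comb]

theorem Frame.comb_mem (hP : Frame B U P) (c : ι ⊕ ι → F) : comb P c ∈ U := by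
  rw [comb, Fintype.linearCombination_apply]
  exact Submodule.sum_mem _ fun k _ => Submodule.smul_mem _ _ (hP.mem k)

/-- The map acting by `M` on the frame and trivially on its orthogonal. -/
def actMat (B : LinearMap.BilinForm F V) (P : ι ⊕ ι → V) (M : Matrix (ι ⊕ ι) (ι ⊕ ι) F) : V →ₗ[F] V :=
  LinearMap.id + comb P ∘ₗ (M - 1).mulVecLin ∘ₗ coord B P

theorem actMat_apply (M : Matrix (ι ⊕ ι) (ι ⊕ ι) F) (x : V) :
    actMat B P M x = x + comb P ((M - 1) *ᵥ coord B P x) := rfl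

theorem Frame.actMat_mul (hP : Frame B U P) (M N : Matrix (ι ⊕ ι) (ι ⊕ ι) F) (x : V) :
    actMat B P M (actMat B P N x) = actMat B P (M * N) x := by
  simp only [actMat_apply, map_add, hP.coord_comb]
  rw [add_assoc, add_right_inj]
  simp only [← map_add]
  congr 1
  simp only [← mulVec_mulVec, mulVec_add, sub_mulVec, one_mulVec, mulVec_sub]
  abel

theorem actMat_one (x : V) : actMat B P 1 x = x := by simp [actMat_apply]

theorem Frame.actMat_comb (hP : Frame B U P) (M : Matrix (ι ⊕ ι) (ι ⊕ ι) F) (c : ι ⊕ ι → F) :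
    actMat B P M (comb P c) = comb P (M *ᵥ c) := by
  rw [actMat_apply, hP.coord_comb, ← map_add, sub_mulVec, one_mulVec, add_sub_cancel]

/-- The isometry of a symplectic matrix. -/
def Frame.equiv (hP : Frame B U P) (M : Matrix.symplecticGroup ι F) : V ≃ₗ[F] V :=
  LinearEquiv.ofLinear (actMat B P (M : Matrix (ι ⊕ ι) (ι ⊕ ι) F))
    (actMat B P ((M⁻¹ : Matrix.symplecticGroup ι F) : Matrix (ι ⊕ ι) (ι ⊕ ι) F))
    (LinearMap.ext fun x => by
      rw [LinearMap.comp_apply, hP.actMat_mul, ← Submonoid.coe_mul, mul_inv_cancel, Submonoid.coe_one,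
        actMat_one]; rfl)
    (LinearMap.ext fun x => by
      rw [LinearMap.comp_apply, hP.actMat_mul, ← Submonoid.coe_mul, inv_mul_cancel, Submonoid.coe_one,
        actMat_one]; rfl)

theorem Frame.equiv_apply (hP : Frame B U P) (M : Matrix.symplecticGroup ι F) (x : V) :
    hP.equiv M x = actMat B P (M : Matrix (ι ⊕ ι) (ι ⊕ ι) F) x := rfl

theorem Frame.isomOn (hB : B.IsAlt) (hP : Frame B U P) (M : Matrix.symplecticGroup ι F) : IsomOn B U (hP.equiv M) := by
  refine ⟨fun x y => ?_, fun x hx => ?_, fun x hx => ?_⟩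
  · simp only [hP.equiv_apply, actMat_apply]
    have hM := SymplecticGroup.mem_iff'.1 M.2
    set N := (M : Matrix (ι ⊕ ι) (ι ⊕ ι) F) - 1 with hN
    set cx := coord B P x
    set cy := coord B P y
    have hyx : (fun k => B (P k) y) = J ι F *ᵥ cy := by
      funext k
      have := congrFun (row_eq (B := B) (P := P) y) k
      rw [Pi.neg_apply] at this
      have halt : B (P k) y = -B y (P k) := (LinearMap.IsAlt.neg hB y (P k)).symm
      rw [halt, this, neg_neg]
    have key : (1 + N)ᵀ * J ι F * (1 + N) = J ι F := by rw [hN, add_sub_cancel]; exact hM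
    have key' : J ι F * N + Nᵀ * J ι F + Nᵀ * J ι F * N = 0 := by
      rw [transpose_add, transpose_one] at key
      rw [← sub_eq_zero] at key
      rw [← key]
      noncomm_ring
    rw [LinearMap.map_add₂, map_add, map_add, hP.form_comb, form_comb_left, hyx, form_comb_right, row_eq]
    have e : cx ⬝ᵥ ((J ι F * N + Nᵀ * J ι F + Nᵀ * J ι F * N) *ᵥ cy) = 0 := by
      rw [key', zero_mulVec, dotProduct_zero]
    simp only [add_mulVec, dotProduct_add] at e
    have t1 : cx ⬝ᵥ ((J ι F * N) *ᵥ cy) = -(J ι F *ᵥ cx) ⬝ᵥ (N *ᵥ cy) := by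
      rw [← mulVec_mulVec, dotProduct_mulVec, ← mulVec_transpose, J_transpose, neg_mulVec]
    have t2 : cx ⬝ᵥ ((Nᵀ * J ι F) *ᵥ cy) = (N *ᵥ cx) ⬝ᵥ (J ι F *ᵥ cy) := by
      rw [← mulVec_mulVec, dotProduct_mulVec, vecMul_transpose]
    have t3 : cx ⬝ᵥ ((Nᵀ * J ι F * N) *ᵥ cy) = (N *ᵥ cx) ⬝ᵥ (J ι F *ᵥ (N *ᵥ cy)) := by
      rw [Matrix.mul_assoc, ← mulVec_mulVec, dotProduct_mulVec, vecMul_transpose, ← mulVec_mulVec]
    rw [t1, t2, t3] at e
    linear_combination e
  · rw [hP.equiv_apply, actMat_apply]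
    have : coord B P x = 0 := by
      rw [coord_apply]
      have : (fun l => B x (P l)) = 0 := funext fun l => hx _ (hP.mem l)
      rw [this, mulVec_zero]
    rw [this, mulVec_zero, map_zero, add_zero]
  · rw [hP.equiv_apply, actMat_apply]
    exact Submodule.add_mem _ hx (hP.comb_mem _)

end CfsgLib.SpComm
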