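import Mathlib

/-!
# Symplectic matrices in the open Bruhat cell of the Siegel parabolic

If `P` and `P⁻¹` have no common eigenvalue (witnessed by a polynomial `h`), every element of
`U⁻ · diag(A, A⁻ᵀ) · U` with `A = x P x⁻¹ P⁻¹` is a commutator in the symplectic group.
-/

set_option autoImplicit false
set_option linter.unusedSectionVars false

namespace CfsgLib.SpComm

open Matrix Polynomial

variable {F : Type*} [Field F] {ι : Type*} [Fintype ι] [DecidableEq ι]

/-- `h` kills `P` and is invertible at `P⁻¹`. -/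
def ValidH (h : F[X]) (P : Matrix ι ι F) : Prop :=
  IsUnit P ∧ aeval P h = 0 ∧ IsUnit (aeval P⁻¹ h)

/-- `A` is a commutator `x P x⁻¹ P⁻¹` with `P` valid for `h`. -/
def OkH (h : F[X]) (A : Matrix ι ι F) : Prop :=
  ∃ x P : Matrix ι ι F, IsUnit x ∧ ValidH h P ∧ A = x * P * x⁻¹ * P⁻¹

theorem aeval_semiconj {A C S : Matrix ι ι F} (e : A * S = S * C) (h : F[X]) :
    aeval A h * S = S * aeval C h := by
  induction h using Polynomial.induction_on' with
  | add p q hp hq => rw [map_add, map_add, add_mul, mul_add, hp, hq]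
  | monomial n c =>
    rw [aeval_monomial, aeval_monomial, mul_assoc, ← mul_assoc S, ← Algebra.commutes c S, mul_assoc]
    congr 1
    induction n with
    | zero => simp
    | succ n ih => rw [pow_succ, pow_succ, mul_assoc, e, ← mul_assoc, ih, mul_assoc]

theorem aeval_transpose (A : Matrix ι ι F) (h : F[X]) : aeval Aᵀ h = (aeval A h)ᵀ := by
  induction h using Polynomial.induction_on' with
  | add p q hp hq => rw [map_add, map_add, transpose_add, hp, hq]
  | monomial n c =>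
    rw [aeval_monomial, aeval_monomial, transpose_mul, transpose_pow, Algebra.commutes]
    congr 1
    rw [Algebra.algebraMap_eq_smul_one, transpose_smul, transpose_one]

theorem ValidH.det {h : F[X]} {P : Matrix ι ι F} (hP : ValidH h P) : IsUnit P.det :=
  (isUnit_iff_isUnit_det P).1 hP.1

theorem ValidH.low {h : F[X]} {P : Matrix ι ι F} (hP : ValidH h P) {S : Matrix ι ι F}
    (e : Pᵀ * S * P = S) : S = 0 := by
  have e' : Pᵀ * S = S * P⁻¹ := by
    conv_rhs => rw [← e, mul_nonsing_inv_cancel_right _ _ hP.det]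
  have := aeval_semiconj e' h
  rw [aeval_transpose, hP.2.1, transpose_zero, Matrix.zero_mul] at this
  exact hP.2.2.mul_left_eq_zero.1 this.symm

theorem ValidH.up {h : F[X]} {P : Matrix ι ι F} (hP : ValidH h P) {S : Matrix ι ι F}
    (e : P * S * Pᵀ = S) : S = 0 := by
  have hd : IsUnit Pᵀ.det := by rw [det_transpose]; exact hP.det
  have e' : P * S = S * (P⁻¹)ᵀ := by
    rw [transpose_nonsing_inv]
    conv_rhs => rw [← e, mul_nonsing_inv_cancel_right _ _ hd]
  have := aeval_semiconj e' h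
  rw [aeval_transpose, hP.2.1, Matrix.zero_mul] at this
  have hu : IsUnit (aeval P⁻¹ h)ᵀ := by
    rw [isUnit_iff_isUnit_det, det_transpose, ← isUnit_iff_isUnit_det]; exact hP.2.2
  exact hu.mul_left_eq_zero.1 this.symm

/-- The symmetric matrices. -/
def symMat (ι F : Type*) [Field F] : Submodule F (Matrix ι ι F) where
  carrier := {S | Sᵀ = S}
  add_mem' {a b} ha hb := by simp [transpose_add, ha.out, hb.out]
  zero_mem' := transpose_zero
  smul_mem' c x hx := by simp [transpose_smul, hx.out]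

theorem solve_sym {Q : Matrix ι ι F} (hQ : ∀ S, Qᵀ * S * Q = S → S = 0) {T : Matrix ι ι F}
    (hT : Tᵀ = T) : ∃ S : Matrix ι ι F, Sᵀ = S ∧ S - Qᵀ * S * Q = T := by
  let Φ : symMat ι F →ₗ[F] symMat ι F :=
    { toFun := fun S => ⟨S.1 - Qᵀ * S.1 * Q, by
        show (S.1 - Qᵀ * S.1 * Q)ᵀ = _
        have hs : (S : Matrix ι ι F)ᵀ = S := S.2
        simp [transpose_sub, transpose_mul, hs, Matrix.mul_assoc]⟩
      map_add' := fun S S' => Subtype.ext (by
        simp [Matrix.mul_add, Matrix.add_mul]; abel)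
      map_smul' := fun c S => Subtype.ext (by
        simp [smul_sub]) }
  have hΦ : Function.Injective Φ := by
    rw [← LinearMap.ker_eq_bot, LinearMap.ker_eq_bot']
    intro S hS
    refine Subtype.ext (hQ _ ?_)
    exact (sub_eq_zero.1 (congrArg Subtype.val hS)).symm
  obtain ⟨S, hS⟩ := (LinearMap.injective_iff_surjective.1 hΦ) ⟨T, hT⟩
  exact ⟨S.1, S.2, congrArg Subtype.val hS⟩

/-! ### The three kinds of elements -/

theorem mem_of_blocks {A B C D : Matrix ι ι F} (hAC : Aᵀ * C = Cᵀ * A) (hBD : Bᵀ * D = Dᵀ * B)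
    (hAD : Aᵀ * D - Cᵀ * B = 1) : fromBlocks A B C D ∈ symplecticGroup ι F := by
  rw [SymplecticGroup.mem_iff', J, fromBlocks_transpose, fromBlocks_multiply, fromBlocks_multiply,
    fromBlocks_inj]
  have hDA : Dᵀ * A - Bᵀ * C = 1 := by
    have := congrArg transpose hAD
    simpa [transpose_mul] using this
  refine ⟨?_, ?_, ?_, ?_⟩ <;> simp
  · rw [hAC, add_neg_cancel]
  · rw [← hAD]; abel
  · rw [← hDA]; abel
  · rw [hBD, add_neg_cancel]

theorem blocks_of_mem {g : Matrix (ι ⊕ ι) (ι ⊕ ι) F} (hg : g ∈ symplecticGroup ι F) :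
    g.toBlocks₁₁ᵀ * g.toBlocks₂₁ = g.toBlocks₂₁ᵀ * g.toBlocks₁₁ ∧
      g.toBlocks₁₂ᵀ * g.toBlocks₂₂ = g.toBlocks₂₂ᵀ * g.toBlocks₁₂ ∧
      g.toBlocks₁₁ᵀ * g.toBlocks₂₂ - g.toBlocks₂₁ᵀ * g.toBlocks₁₂ = 1 := by
  rw [SymplecticGroup.mem_iff', J, ← fromBlocks_toBlocks g, fromBlocks_transpose, fromBlocks_multiply,
    fromBlocks_multiply, fromBlocks_inj] at hg
  obtain ⟨e1, e2, -, e4⟩ := hg
  simp at e1 e2 e4
  refine ⟨?_, ?_, ?_⟩
  · exact (sub_eq_zero.1 (by rw [← e1]; abel)).symm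
  · exact (sub_eq_zero.1 (by rw [← e4]; abel)).symm
  · rw [← neg_inj, ← e2]; abel

/-- `[[1, S], [0, 1]]`. -/
def upSym (S : Matrix ι ι F) (hS : Sᵀ = S) : symplecticGroup ι F :=
  ⟨fromBlocks 1 S 0 1, mem_of_blocks (by simp) (by simp [hS]) (by simp)⟩

/-- `[[1, 0], [S, 1]]`. -/
def lowSym (S : Matrix ι ι F) (hS : Sᵀ = S) : symplecticGroup ι F :=
  ⟨fromBlocks 1 0 S 1, mem_of_blocks (by simp [hS]) (by simp) (by simp)⟩

/-- `diag(P, P⁻ᵀ)`. -/
noncomputable def levi (P : Matrix ι ι F) (hP : IsUnit P.det) : symplecticGroup ι F :=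
  ⟨fromBlocks P 0 0 (P⁻¹)ᵀ, mem_of_blocks (by simp) (by simp)
    (by simp [← transpose_mul, nonsing_inv_mul _ hP])⟩

theorem ext_val {a b : symplecticGroup ι F}
    (h : (a : Matrix (ι ⊕ ι) (ι ⊕ ι) F) = b) : a = b := Subtype.ext h

theorem levi_mul (P Q : Matrix ι ι F) (hP : IsUnit P.det) (hQ : IsUnit Q.det) :
    levi P hP * levi Q hQ = levi (P * Q) (by rw [det_mul]; exact hP.mul hQ) := by
  apply ext_val
  simp [levi, fromBlocks_multiply, Matrix.mul_inv_rev, transpose_mul]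

theorem levi_congr {P Q : Matrix ι ι F} (h : P = Q) (hP : IsUnit P.det) :
    levi P hP = levi Q (h ▸ hP) := by subst h; rfl

/-- `lowSym C * levi P` is conjugate to `levi P`. -/
theorem exists_conj_low {h : F[X]} {P : Matrix ι ι F} (hP : ValidH h P) (C : Matrix ι ι F)
    (hC : Cᵀ = C) : ∃ u : symplecticGroup ι F,
      lowSym C hC * levi P hP.det = u * levi P hP.det * u⁻¹ := by
  have hd := hP.det
  have hinv : IsUnit P⁻¹.det := by
    rw [isUnit_iff_isUnit_det _ |>.symm]; exact (Matrix.isUnit_nonsing_inv_iff).2 hP.1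
  have hQ : ∀ S, (P⁻¹)ᵀ * S * P⁻¹ = S → S = 0 := by
    intro S e
    refine hP.low ?_
    conv_lhs => rw [← e]
    rw [← Matrix.mul_assoc, ← Matrix.mul_assoc, ← transpose_mul, nonsing_inv_mul _ hd,
      transpose_one, Matrix.one_mul, Matrix.mul_assoc, nonsing_inv_mul _ hd, Matrix.mul_one]
  obtain ⟨S, hS, hSC⟩ := solve_sym hQ hC
  refine ⟨lowSym S hS, ?_⟩
  rw [eq_mul_inv_iff_mul_eq]
  apply ext_val
  simp only [Submonoid.coe_mul, lowSym, levi, fromBlocks_multiply]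
  simp only [Matrix.one_mul, Matrix.mul_one, Matrix.mul_zero, Matrix.zero_mul, add_zero, zero_add]
  congr 1
  rw [← hSC, sub_mul, Matrix.mul_assoc _ P⁻¹ P, nonsing_inv_mul _ hd, Matrix.mul_one, sub_add_cancel]

/-- `levi P * upSym X` is conjugate to `levi P`. -/
theorem exists_conj_up {h : F[X]} {P : Matrix ι ι F} (hP : ValidH h P) (X : Matrix ι ι F)
    (hX : Xᵀ = X) : ∃ u : symplecticGroup ι F,
      levi P hP.det * upSym X hX = u * levi P hP.det * u⁻¹ := by
  have hd := hP.det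
  have hd' : IsUnit Pᵀ.det := by rw [det_transpose]; exact hd
  obtain ⟨S, hS, hSC⟩ := solve_sym (Q := Pᵀ) (fun S e => hP.up (by rwa [transpose_transpose] at e))
    (T := P * X * Pᵀ) (by simp [transpose_mul, hX, Matrix.mul_assoc])
  rw [transpose_transpose] at hSC
  refine ⟨upSym S hS, ?_⟩
  rw [eq_mul_inv_iff_mul_eq]
  apply ext_val
  simp only [Submonoid.coe_mul, upSym, levi, fromBlocks_multiply]
  simp only [Matrix.one_mul, Matrix.mul_one, Matrix.mul_zero, Matrix.zero_mul, add_zero, zero_add]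
  congr 1
  have : P * X = (S - P * S * Pᵀ) * (P⁻¹)ᵀ := by
    rw [hSC, transpose_nonsing_inv, mul_nonsing_inv_cancel_right _ _ hd']
  rw [this, sub_mul, transpose_nonsing_inv, mul_nonsing_inv_cancel_right _ _ hd']
  abel

/-- The big cell with an admissible diagonal part consists of commutators. -/
theorem comm_of_factor {h : F[X]} {A : Matrix ι ι F} (hA : OkH h A) (hAd : IsUnit A.det)
    (C X : Matrix ι ι F) (hC : Cᵀ = C) (hX : Xᵀ = X) :
    ∃ a b : symplecticGroup ι F, lowSym C hC * levi A hAd * upSym X hX = a * b * a⁻¹ * b⁻¹ := by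
  obtain ⟨x, P, hx, hP, rfl⟩ := hA
  have hxd : IsUnit x.det := (isUnit_iff_isUnit_det x).1 hx
  have hd := hP.det
  have hinv : IsUnit P⁻¹.det := by
    rw [isUnit_iff_isUnit_det _ |>.symm]; exact (Matrix.isUnit_nonsing_inv_iff).2 hP.1
  set D := levi P hd
  have hDi : levi P⁻¹ hinv = D⁻¹ := by
    refine eq_inv_of_mul_eq_one_right ?_
    rw [levi_mul]
    apply ext_val
    simp [levi, mul_nonsing_inv _ hd]
  have hxi : IsUnit x⁻¹.det := by
    rw [isUnit_iff_isUnit_det _ |>.symm]; exact (Matrix.isUnit_nonsing_inv_iff).2 hx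
  set L := levi x hxd
  have hLi : levi x⁻¹ hxi = L⁻¹ := by
    refine eq_inv_of_mul_eq_one_right ?_
    rw [levi_mul]
    apply ext_val
    simp [levi, mul_nonsing_inv _ hxd]
  have hsplit : levi (x * P * x⁻¹ * P⁻¹) hAd = L * D * L⁻¹ * D⁻¹ := by
    rw [← hDi, ← hLi, levi_mul, levi_mul, levi_mul]
  -- the first factor
  have hC' : (xᵀ * C * x)ᵀ = xᵀ * C * x := by simp [transpose_mul, hC, Matrix.mul_assoc]
  obtain ⟨u, hu⟩ := exists_conj_low hP _ hC'
  have hlow : lowSym C hC * L = L * lowSym _ hC' := by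
    apply ext_val
    simp only [Submonoid.coe_mul, lowSym, levi, fromBlocks_multiply, L]
    simp [← Matrix.mul_assoc, ← transpose_mul, mul_nonsing_inv _ hxd]
  -- the second factor
  have hX' : (-(P * X * Pᵀ))ᵀ = -(P * X * Pᵀ) := by simp [transpose_mul, hX, Matrix.mul_assoc]
  obtain ⟨w, hw⟩ := exists_conj_up hP (-X) (by simp [hX])
  have hXneg : upSym X hX = (upSym (-X) (by simp [hX]))⁻¹ := by
    refine eq_inv_of_mul_eq_one_left ?_
    apply ext_val
    simp [upSym, fromBlocks_multiply]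
  set U' := upSym (-X) (by simp [hX] : (-X)ᵀ = -X)
  have key : lowSym C hC * levi (x * P * x⁻¹ * P⁻¹) hAd * upSym X hX =
      (L * u) * D * (L * u)⁻¹ * (U' * w * D⁻¹ * (U' * w)⁻¹) := by
    have e2 : D⁻¹ * upSym X hX = U' * w * D⁻¹ * (U' * w)⁻¹ := by
      have : U' * D = U' * (D * U') * U'⁻¹ := by group
      rw [hXneg, ← _root_.mul_inv_rev]
      calc (U' * D)⁻¹ = (U' * (D * U') * U'⁻¹)⁻¹ := by rw [← this]
        _ = (U' * (w * D * w⁻¹) * U'⁻¹)⁻¹ := by rw [hw]
        _ = _ := by group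
    rw [hsplit, show lowSym C hC * (L * D * L⁻¹ * D⁻¹) * upSym X hX =
      (lowSym C hC * L) * D * L⁻¹ * (D⁻¹ * upSym X hX) by group, hlow, e2,
      show L * lowSym (xᵀ * C * x) hC' * D * L⁻¹ = L * (lowSym (xᵀ * C * x) hC' * D) * L⁻¹ by group, hu]
    group
    rfl
  refine ⟨L * u * (U' * w)⁻¹, U' * w * D * (U' * w)⁻¹, ?_⟩
  rw [key]
  group

/-- A symplectic matrix whose lower-left block is compatible with `A`. -/
theorem comm_of_blocks {h : F[X]} {A : Matrix ι ι F} (hA : OkH h A) (g : symplecticGroup ι F)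
    (a c : Matrix ι ι F) (ha : (g : Matrix (ι ⊕ ι) (ι ⊕ ι) F).toBlocks₁₁ = a)
    (hc : (g : Matrix (ι ⊕ ι) (ι ⊕ ι) F).toBlocks₂₁ = c)
    (hsym : cᵀ * A = Aᵀ * c) (hker : ∀ v, c *ᵥ v = 0 → a *ᵥ v = A *ᵥ v) :
    ∃ p q : symplecticGroup ι F, g = p * q * p⁻¹ * q⁻¹ := by
  have hAd : IsUnit A.det := by
    obtain ⟨x, P, hx, hP, rfl⟩ := hA
    simp only [det_mul, det_nonsing_inv, IsUnit.mul_iff, isUnit_ringInverse]
    exact ⟨⟨⟨(isUnit_iff_isUnit_det x).1 hx, hP.det⟩, (isUnit_iff_isUnit_det x).1 hx⟩, hP.det⟩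
  obtain ⟨h1, -, -⟩ := blocks_of_mem g.2
  rw [ha, hc] at h1
  -- a symmetric `S` with `S * c = a - A`
  obtain ⟨K, hK⟩ : ∃ K : Matrix ι ι F, c * K * c = c := by
    obtain ⟨k, hk⟩ := LinearMap.exists_rightInverse_of_surjective (c.mulVecLin.rangeRestrict)
      (LinearMap.range_rangeRestrict _)
    obtain ⟨k', hk'⟩ := k.exists_extend
    refine ⟨LinearMap.toMatrix' k', Matrix.toLin'.injective (LinearMap.ext fun v => ?_)⟩
    simp only [Matrix.toLin'_apply, ← mulVec_mulVec]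
    rw [← Matrix.toLin'_apply (LinearMap.toMatrix' k'), Matrix.toLin'_toMatrix']
    have := congrArg Subtype.val (LinearMap.congr_fun hk (c.mulVecLin.rangeRestrict v))
    rw [← hk'] at this
    simpa [Matrix.toLin'_apply'] using this
  set D := a - A with hD
  have hDK : D * K * c = D := by
    refine Matrix.toLin'.injective (LinearMap.ext fun v => ?_)
    simp only [Matrix.toLin'_apply, ← mulVec_mulVec]
    have := hker (K *ᵥ (c *ᵥ v) - v) (by rw [mulVec_sub, mulVec_mulVec, mulVec_mulVec, hK, sub_self])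
    rw [← sub_eq_zero, ← sub_mulVec, ← hD, mulVec_sub, sub_eq_zero] at this
    exact this
  have hcD : (cᵀ * D)ᵀ = cᵀ * D := by
    rw [transpose_mul, transpose_transpose, hD, transpose_sub, Matrix.sub_mul, Matrix.mul_sub, h1, hsym]
  set S := D * K + (D * K)ᵀ - Kᵀ * (cᵀ * D) * K with hSdef
  have hS : Sᵀ = S := by
    rw [hSdef, transpose_sub, transpose_add, transpose_transpose, transpose_mul (Kᵀ * (cᵀ * D)),
      transpose_mul Kᵀ, hcD, transpose_transpose]
    simp only [Matrix.mul_assoc]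
    abel
  have hSc : S * c = D := by
    rw [hSdef, Matrix.sub_mul, Matrix.add_mul, hDK,
      show Kᵀ * (cᵀ * D) * K * c = Kᵀ * cᵀ * (D * K * c) by simp [Matrix.mul_assoc], hDK,
      transpose_mul, show Kᵀ * Dᵀ * c = Kᵀ * (cᵀ * D)ᵀ by simp [transpose_mul, Matrix.mul_assoc], hcD,
      Matrix.mul_assoc]
    abel
  set u := upSym S hS
  set g' := u⁻¹ * g * u with hg'
  have hu : (u⁻¹ : symplecticGroup ι F) = upSym (-S) (by simp [hS]) := by
    symm
    refine eq_inv_of_mul_eq_one_left ?_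
    apply ext_val
    simp [u, upSym, fromBlocks_multiply]
  set G := (g : Matrix (ι ⊕ ι) (ι ⊕ ι) F) with hG
  have hGb : G = fromBlocks a G.toBlocks₁₂ c G.toBlocks₂₂ := by rw [← ha, ← hc, fromBlocks_toBlocks]
  obtain ⟨b', d', hg'b⟩ : ∃ b' d', (g' : Matrix (ι ⊕ ι) (ι ⊕ ι) F) = fromBlocks A b' c d' := by
    rw [hg', hu]
    simp only [Submonoid.coe_mul, u, upSym, ← hG]
    rw [hGb, fromBlocks_multiply, fromBlocks_multiply]
    simp only [Matrix.one_mul, Matrix.mul_one, Matrix.mul_zero, Matrix.zero_mul, add_zero, zero_add,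
      Matrix.neg_mul, hSc]
    exact ⟨_, _, by rw [show a + -D = A by rw [hD]; abel]⟩
  obtain ⟨k1, k2, k3⟩ := blocks_of_mem g'.2
  rw [hg'b] at k1 k2 k3
  simp only [toBlocks_fromBlocks₁₁, toBlocks_fromBlocks₁₂, toBlocks_fromBlocks₂₁,
    toBlocks_fromBlocks₂₂] at k1 k2 k3
  have hAt : IsUnit Aᵀ.det := by rwa [det_transpose]
  have hC0 : (c * A⁻¹)ᵀ = c * A⁻¹ := by
    rw [transpose_mul, transpose_nonsing_inv]
    calc (Aᵀ)⁻¹ * cᵀ = (Aᵀ)⁻¹ * (cᵀ * A) * A⁻¹ := by
          rw [Matrix.mul_assoc, Matrix.mul_assoc cᵀ, mul_nonsing_inv _ hAd, Matrix.mul_one]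
      _ = (Aᵀ)⁻¹ * (Aᵀ * c) * A⁻¹ := by rw [hsym]
      _ = c * A⁻¹ := by rw [← Matrix.mul_assoc (Aᵀ)⁻¹, nonsing_inv_mul _ hAt, Matrix.one_mul]
  have hd' : d' = (A⁻¹)ᵀ + c * A⁻¹ * b' := by
    have : Aᵀ * d' = 1 + cᵀ * b' := by rw [← k3]; abel
    calc d' = (Aᵀ)⁻¹ * (Aᵀ * d') := by rw [← Matrix.mul_assoc, nonsing_inv_mul _ hAt, Matrix.one_mul]
      _ = (Aᵀ)⁻¹ + ((Aᵀ)⁻¹ * cᵀ) * b' := by rw [this, Matrix.mul_add, Matrix.mul_one, Matrix.mul_assoc]
      _ = _ := by
        rw [← transpose_nonsing_inv, ← transpose_mul, hC0]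
  have hX0 : (A⁻¹ * b')ᵀ = A⁻¹ * b' := by
    have hs : b'ᵀ * (A⁻¹)ᵀ = A⁻¹ * b' := by
      have := k2
      rw [hd', Matrix.mul_add, transpose_add, Matrix.add_mul, transpose_transpose, transpose_mul, hC0,
        ← Matrix.mul_assoc, ← Matrix.mul_assoc] at this
      exact add_right_cancel this
    rw [transpose_mul, hs]
  have hfac : g' = lowSym (c * A⁻¹) hC0 * levi A hAd * upSym (A⁻¹ * b') hX0 := by
    apply ext_val
    rw [hg'b]
    simp only [Submonoid.coe_mul, lowSym, levi, upSym, fromBlocks_multiply]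
    simp only [Matrix.one_mul, Matrix.mul_one, Matrix.mul_zero, Matrix.zero_mul, add_zero, zero_add]
    rw [fromBlocks_inj]
    refine ⟨rfl, ?_, ?_, ?_⟩
    · rw [mul_nonsing_inv_cancel_left _ _ hAd]
    · rw [Matrix.mul_assoc, nonsing_inv_mul _ hAd, Matrix.mul_one]
    · rw [hd', Matrix.mul_assoc (c * A⁻¹), mul_nonsing_inv_cancel_left _ _ hAd]; abel
  obtain ⟨p, q, hpq⟩ := comm_of_factor hA hAd (c * A⁻¹) (A⁻¹ * b') hC0 hX0
  rw [← hfac] at hpq
  refine ⟨u * p * u⁻¹, u * q * u⁻¹, ?_⟩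
  calc g = u * g' * u⁻¹ := by rw [hg']; group
    _ = u * (p * q * p⁻¹ * q⁻¹) * u⁻¹ := by rw [hpq]
    _ = _ := by group

end CfsgLib.SpComm
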