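import Cfsg.Agent.Lib.Classical.SpComm.Basic
import Cfsg.Agent.Lib.Classical.SpComm.Engine

/-!
# Lagrangians compatible with a prescribed diagonal block

`GoodBasis B U g A e` says: `e` is a basis of a Lagrangian `W` of `U`, the form
`(u, v) ↦ B (A u) (g v)` on `W` is symmetric and `g` agrees with `A` on `W ∩ g⁻¹ W`.
Then `g` is, on `U`, in the big cell with diagonal block `A`.
-/

set_option autoImplicit false
set_option linter.unusedSectionVars false

namespace CfsgLib.SpComm

open Matrix Polynomial Module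

variable {F V : Type*} [Field F] [AddCommGroup V] [Module F V] [FiniteDimensional F V]
variable {B : LinearMap.BilinForm F V}
variable {ι κ : Type*} [Fintype ι] [Fintype κ]

/-- See the module docstring. -/
structure GoodBasis (B : LinearMap.BilinForm F V) (U : Submodule F V) (g : V ≃ₗ[F] V)
    (A : Matrix ι ι F) (e : ι → V) : Prop where
  mem : ∀ i, e i ∈ U
  indep : LinearIndependent F e
  card : 2 * Fintype.card ι = finrank F U
  iso : ∀ i j, B (e i) (e j) = 0
  sym : ∀ c d, B (Fintype.linearCombination F e (A *ᵥ c)) (g (Fintype.linearCombination F e d)) =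
    B (Fintype.linearCombination F e (A *ᵥ d)) (g (Fintype.linearCombination F e c))
  fix : ∀ c, g (Fintype.linearCombination F e c) ∈ Submodule.span F (Set.range e) →
    g (Fintype.linearCombination F e c) = Fintype.linearCombination F e (A *ᵥ c)

theorem ndOn_swap (hB : B.IsAlt) {U : Submodule F V} (hU : NDOn B U) {x : V} (hx : x ∈ U)
    (h : ∀ y ∈ U, B y x = 0) : x = 0 :=
  hU x hx fun y hy => by rw [← LinearMap.IsAlt.neg hB, h y hy, neg_zero]

theorem exists_dual (hB : B.IsAlt) {U : Submodule F V} (hU : NDOn B U) {e : κ → V} (hmem : ∀ i, e i ∈ U)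
    (hind : LinearIndependent F e) (t : κ → F) : ∃ x ∈ U, ∀ i, B (e i) x = t i := by
  classical
  let Ψ : U →ₗ[F] Module.Dual F U := (B.domRestrict₁₂ U U).flip
  have hΨ : Function.Injective Ψ := by
    rw [← LinearMap.ker_eq_bot, LinearMap.ker_eq_bot']
    intro x hx
    refine Subtype.ext (ndOn_swap hB hU x.2 fun y hy => ?_)
    exact LinearMap.congr_fun hx ⟨y, hy⟩
  have hsur : Function.Surjective Ψ :=
    (LinearMap.injective_iff_surjective_of_finrank_eq_finrank Subspace.dual_finrank_eq.symm).1 hΨ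
  let e' : κ → U := fun i => ⟨e i, hmem i⟩
  have he' : LinearIndependent F e' := LinearIndependent.of_comp U.subtype hind
  obtain ⟨K, hK⟩ := (Fintype.linearCombination F e').exists_leftInverse_of_injective
    (LinearMap.ker_eq_bot'.2 fun c hc => funext (Fintype.linearIndependent_iff.1 he' c
      (by simpa [Fintype.linearCombination_apply] using hc)))
  obtain ⟨x, hx⟩ := hsur (∑ i, t i • (LinearMap.proj i ∘ₗ K))
  refine ⟨x, x.2, fun i => ?_⟩
  have h1 := LinearMap.congr_fun hx (e' i)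
  have h2 : K (e' i) = Pi.single i 1 := by
    have := LinearMap.congr_fun hK (Pi.single i 1)
    rwa [LinearMap.comp_apply, Fintype.linearCombination_apply_single, one_smul] at this
  simp [Ψ, h2, Pi.single_apply, Finset.sum_ite_eq, e'] at h1
  exact h1

variable [DecidableEq ι]

theorem Frame.linearIndependent {U : Submodule F V} {P : ι ⊕ ι → V}
    (hgram : ∀ k l, B (P k) (P l) = J ι F k l) : LinearIndependent F P := by
  have hF : Frame B (Submodule.span F (Set.range P)) P :=
    ⟨fun k => Submodule.subset_span ⟨k, rfl⟩, hgram, le_rfl⟩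
  rw [Fintype.linearIndependent_iff]
  intro c hc k
  have := hF.coord_comb c
  rw [comb, Fintype.linearCombination_apply, hc, map_zero] at this
  rw [← this]; rfl

/-- Lagrangian bases extend to frames. -/
theorem exists_frame_extend (hB : B.IsAlt) {U : Submodule F V} (hU : NDOn B U) {e : ι → V}
    (hmem : ∀ i, e i ∈ U) (hind : LinearIndependent F e) (hcard : 2 * Fintype.card ι = finrank F U)
    (hiso : ∀ i j, B (e i) (e j) = 0) : ∃ P : ι ⊕ ι → V, Frame B U P ∧ ∀ i, P (.inl i) = e i := by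
  choose f0 hf0U hf0 using fun j => exists_dual hB hU hmem hind (fun i => if i = j then (-1 : F) else 0)
  let σ := Fintype.equivFin ι
  let s : ι → ι → F := fun j l => if σ j < σ l then B (f0 j) (f0 l) else 0
  let f : ι → V := fun j => f0 j + ∑ i, s j i • e i
  have hef : ∀ i j, B (e i) (f j) = if i = j then (-1 : F) else 0 := fun i j => by
    simp [f, map_sum, hiso, hf0]
  have hfe : ∀ i j, B (f j) (e i) = if i = j then (1 : F) else 0 := fun i j => by
    rw [← LinearMap.IsAlt.neg hB, hef]; split <;> simp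
  have hf0e : ∀ i j, B (f0 j) (e i) = if i = j then (1 : F) else 0 := fun i j => by
    rw [← LinearMap.IsAlt.neg hB, hf0]; split <;> simp
  have hff : ∀ j l, B (f j) (f l) = 0 := by
    intro j l
    have : B (f j) (f l) = B (f0 j) (f0 l) + s l j * 1 - s j l * 1 := by
      simp only [f, map_add, LinearMap.add_apply, map_sum, map_smul, LinearMap.coe_sum,
        Finset.sum_apply, LinearMap.smul_apply, smul_eq_mul, hiso, hf0, hf0e, mul_ite, mul_zero,
        Finset.sum_const_zero, Finset.sum_ite_eq', Finset.mem_univ, if_true, add_zero]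
      ring
    rw [this]
    rcases lt_trichotomy (σ j) (σ l) with h | h | h
    · simp [s, h, h.not_gt]
    · have := σ.injective h
      subst this
      simp [hB (f0 j)]
    · simp [s, h, h.not_gt]
      rw [← LinearMap.IsAlt.neg hB (f0 l), neg_add_cancel]
  refine ⟨Sum.elim e f, ?_, fun i => rfl⟩
  have hgram : ∀ k l, B (Sum.elim e f k) (Sum.elim e f l) = J ι F k l := by
    rintro (i | i) (j | j) <;> simp [J, fromBlocks, Matrix.one_apply, hiso, hef, hfe, hff, eq_comm]
    all_goals (by_cases h : i = j <;> simp [h, eq_comm])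
  have hfU : ∀ j, f j ∈ U := fun j =>
    U.add_mem (hf0U j) (U.sum_mem fun i _ => U.smul_mem _ (hmem i))
  have hsub : Submodule.span F (Set.range (Sum.elim e f)) ≤ U := by
    rw [Submodule.span_le]; rintro _ ⟨i | i, rfl⟩ <;> simp [hmem, hfU]
  refine ⟨fun k => hsub (Submodule.subset_span ⟨k, rfl⟩), hgram, le_of_eq ?_⟩
  refine (Submodule.eq_of_le_of_finrank_le hsub ?_).symm
  rw [finrank_span_eq_card (Frame.linearIndependent (U := U) hgram), Fintype.card_sum]
  omega

/-- A frame in which `g` is given by a commutator. -/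
theorem commOn_of_matrix (hB : B.IsAlt) {U : Submodule F V} {P : ι ⊕ ι → V} (hP : Frame B U P)
    {g : V ≃ₗ[F] V} {G p q : symplecticGroup ι F}
    (hG : ∀ c, g (comb P c) = comb P ((G : Matrix (ι ⊕ ι) (ι ⊕ ι) F) *ᵥ c))
    (h : G = p * q * p⁻¹ * q⁻¹) : CommOn B U g := by
  refine ⟨_, _, hP.isomOn hB p, hP.isomOn hB q, fun x hx => ?_⟩
  have e : G * q * p = p * q := by rw [h]; group
  rw [← hP.comb_coord hx]
  simp only [hP.equiv_apply, hP.actMat_comb, hG, mulVec_mulVec, ← Submonoid.coe_mul]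
  rw [← e, mul_assoc]

/-- The matrix of an isometry in a frame. -/
theorem exists_matrix {U : Submodule F V} {P : ι ⊕ ι → V} (hP : Frame B U P)
    {g : V ≃ₗ[F] V} (hg : Isom B g) (hgU : Stab U g) :
    ∃ G : symplecticGroup ι F, ∀ c, g (comb P c) = comb P ((G : Matrix (ι ⊕ ι) (ι ⊕ ι) F) *ᵥ c) := by
  let G : Matrix (ι ⊕ ι) (ι ⊕ ι) F := Matrix.of fun k l => coord B P (g (P l)) k
  have hcol : ∀ l, g (P l) = comb P (G *ᵥ Pi.single l 1) := fun l => by
    rw [mulVec_single_one]
    exact (hP.comb_coord (hgU _ (hP.mem l))).symm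
  refine ⟨⟨G, ?_⟩, fun c => ?_⟩
  · rw [SymplecticGroup.mem_iff']
    ext k l
    have := hg (P k) (P l)
    rw [hcol, hcol, hP.form_comb, hP.gram, mulVec_single_one, mulVec_single_one,
      dotProduct_mulVec] at this
    exact this
  · have : comb P c = ∑ l, c l • P l := Fintype.linearCombination_apply ..
    rw [this, map_sum]
    have hc : c = ∑ l, c l • Pi.single l (1 : F) := by funext k; simp [Pi.single_apply]
    conv_rhs => rw [hc, Matrix.mulVec_sum]
    simp only [map_sum, mulVec_smul, map_smul, hcol]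

theorem GoodBasis.commOn (hB : B.IsAlt) {U : Submodule F V} (hU : NDOn B U) {g : V ≃ₗ[F] V}
    (hg : Isom B g) (hgU : Stab U g) {A : Matrix ι ι F} {e : ι → V} (he : GoodBasis B U g A e)
    {h : F[X]} (hA : OkH h A) : CommOn B U g := by
  obtain ⟨P, hP, hPe⟩ := exists_frame_extend hB hU he.mem he.indep he.card he.iso
  obtain ⟨G, hG⟩ := exists_matrix hP hg hgU
  have hlc : ∀ v : ι → F, Fintype.linearCombination F e v = comb P (Sum.elim v 0) := fun v => by
    simp [comb, Fintype.linearCombination_apply, Fintype.sum_sum_type, hPe]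
  set a := (G : Matrix (ι ⊕ ι) (ι ⊕ ι) F).toBlocks₁₁
  set c := (G : Matrix (ι ⊕ ι) (ι ⊕ ι) F).toBlocks₂₁
  have hgv : ∀ v, g (Fintype.linearCombination F e v) = comb P (Sum.elim (a *ᵥ v) (c *ᵥ v)) := fun v => by
    rw [hlc, hG, ← fromBlocks_toBlocks (G : Matrix (ι ⊕ ι) (ι ⊕ ι) F), fromBlocks_mulVec]
    simp [a, c]
  have hinj : Function.Injective (Fintype.linearCombination F e) :=
    LinearMap.ker_eq_bot.1 (LinearMap.ker_eq_bot'.2 fun c hc => funext
      (Fintype.linearIndependent_iff.1 he.indep c (by simpa [Fintype.linearCombination_apply] using hc)))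
  have hker : ∀ v, c *ᵥ v = 0 → a *ᵥ v = A *ᵥ v := by
    intro v hv
    have h1 := hgv v
    rw [hv, ← hlc] at h1
    refine hinj (h1.symm.trans (he.fix v ?_))
    rw [h1, ← Fintype.range_linearCombination]
    exact ⟨_, rfl⟩
  have hsym : cᵀ * A = Aᵀ * c := by
    have key : ∀ x y, (A *ᵥ x) ⬝ᵥ (c *ᵥ y) = (A *ᵥ y) ⬝ᵥ (c *ᵥ x) := by
      intro x y
      have := he.sym x y
      rw [hgv, hgv, hlc, hlc, hP.form_comb, hP.form_comb] at this
      simpa [J, fromBlocks_mulVec, neg_mulVec, dotProduct, Fintype.sum_sum_type] using this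
    ext i j
    have := key (Pi.single j 1) (Pi.single i 1)
    rw [dotProduct_comm] at this
    simpa [Matrix.mul_apply, dotProduct] using this
  obtain ⟨p, q, hpq⟩ := comm_of_blocks hA G a c rfl rfl hsym hker
  exact commOn_of_matrix hB hP hG hpq

theorem GoodBasis.reindex {ι' : Type*} [Fintype ι'] [DecidableEq ι'] {U : Submodule F V} {g : V ≃ₗ[F] V}
    {A : Matrix ι ι F} {e : ι → V} (he : GoodBasis B U g A e) (σ : ι' ≃ ι) :
    GoodBasis B U g (A.submatrix σ σ) (e ∘ σ) := by
  have hlc : ∀ c : ι' → F, Fintype.linearCombination F (e ∘ σ) c =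
      Fintype.linearCombination F e (c ∘ σ.symm) := fun c => by
    rw [Fintype.linearCombination_apply, Fintype.linearCombination_apply]
    exact Fintype.sum_equiv σ _ _ (by simp)
  have hmv : ∀ c : ι' → F, (A.submatrix σ σ *ᵥ c) ∘ σ.symm = A *ᵥ (c ∘ σ.symm) := fun c => by
    rw [submatrix_mulVec_equiv]; ext i; simp
  refine ⟨fun i => he.mem _, he.indep.comp _ σ.injective, ?_, fun i j => he.iso _ _, fun c d => ?_, fun c hc => ?_⟩
  · rw [Fintype.card_congr σ, he.card]
  · simp only [hlc, hmv]; exact he.sym _ _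
  · simp only [hlc, hmv] at hc ⊢
    refine he.fix _ ?_
    rwa [σ.surjective.range_comp] at hc

theorem finrank_sup_of_orth (hB : B.IsAlt) {U₁ U₂ : Submodule F V} (h1 : NDOn B U₁)
    (h : ∀ x ∈ U₁, ∀ y ∈ U₂, B x y = 0) :
    finrank F ↥(U₁ ⊔ U₂) = finrank F U₁ + finrank F U₂ ∧ Disjoint U₁ U₂ := by
  have hd : Disjoint U₁ U₂ := Submodule.disjoint_def.2 fun x hx hy =>
    ndOn_swap hB h1 hx fun y hy' => h y hy' x hy
  refine ⟨?_, hd⟩
  have := Submodule.finrank_sup_add_finrank_inf_eq U₁ U₂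
  rwa [hd.eq_bot, finrank_bot, add_zero] at this

theorem GoodBasis.sup [DecidableEq κ] (hB : B.IsAlt) {U₁ U₂ : Submodule F V} {g : V ≃ₗ[F] V}
    (h1 : NDOn B U₁) (hg1 : Stab U₁ g) (hg2 : Stab U₂ g)
    {A₁ : Matrix ι ι F} {A₂ : Matrix κ κ F} {e₁ : ι → V} {e₂ : κ → V}
    (he₁ : GoodBasis B U₁ g A₁ e₁) (he₂ : GoodBasis B U₂ g A₂ e₂)
    (h12 : ∀ x ∈ U₁, ∀ y ∈ U₂, B x y = 0) :
    GoodBasis B (U₁ ⊔ U₂) g (fromBlocks A₁ 0 0 A₂) (Sum.elim e₁ e₂) := by
  obtain ⟨hdim, hd⟩ := finrank_sup_of_orth hB h1 h12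
  have h21 : ∀ x ∈ U₁, ∀ y ∈ U₂, B y x = 0 := fun x hx y hy => by
    rw [← LinearMap.IsAlt.neg hB, h12 x hx y hy, neg_zero]
  have hs1 : Submodule.span F (Set.range e₁) ≤ U₁ := Submodule.span_le.2 (Set.range_subset_iff.2 he₁.mem)
  have hs2 : Submodule.span F (Set.range e₂) ≤ U₂ := Submodule.span_le.2 (Set.range_subset_iff.2 he₂.mem)
  have hl1 : ∀ c, Fintype.linearCombination F e₁ c ∈ U₁ := fun c => hs1 (by
    rw [← Fintype.range_linearCombination]; exact ⟨c, rfl⟩)
  have hl2 : ∀ c, Fintype.linearCombination F e₂ c ∈ U₂ := fun c => hs2 (by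
    rw [← Fintype.range_linearCombination]; exact ⟨c, rfl⟩)
  have hlc : ∀ c, Fintype.linearCombination F (Sum.elim e₁ e₂) c =
      Fintype.linearCombination F e₁ (c ∘ Sum.inl) + Fintype.linearCombination F e₂ (c ∘ Sum.inr) :=
    fun c => by simp [Fintype.linearCombination_apply, Fintype.sum_sum_type]
  have hmv : ∀ c, (fromBlocks A₁ 0 0 A₂ *ᵥ c) ∘ Sum.inl = A₁ *ᵥ (c ∘ Sum.inl) ∧
      (fromBlocks A₁ 0 0 A₂ *ᵥ c) ∘ Sum.inr = A₂ *ᵥ (c ∘ Sum.inr) := fun c => by
    constructor <;> funext i <;> simp [fromBlocks_mulVec]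
  refine ⟨?_, ?_, ?_, ?_, ?_, ?_⟩
  · rintro (i | i)
    · exact Submodule.mem_sup_left (he₁.mem i)
    · exact Submodule.mem_sup_right (he₂.mem i)
  · exact he₁.indep.sum_type he₂.indep (hd.mono hs1 hs2)
  · rw [Fintype.card_sum, hdim, ← he₁.card, ← he₂.card]; ring
  · rintro (i | i) (j | j)
    · exact he₁.iso i j
    · exact h12 _ (he₁.mem i) _ (he₂.mem j)
    · exact h21 _ (he₁.mem j) _ (he₂.mem i)
    · exact he₂.iso i j
  · intro c d
    simp only [hlc, (hmv c).1, (hmv c).2, (hmv d).1, (hmv d).2, map_add, LinearMap.add_apply]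
    rw [h12 _ (hl1 _) _ (hg2 _ (hl2 _)), h21 _ (hg1 _ (hl1 _)) _ (hl2 _),
      h12 _ (hl1 _) _ (hg2 _ (hl2 _)), h21 _ (hg1 _ (hl1 _)) _ (hl2 _), he₁.sym, he₂.sym]
  · intro c hc
    simp only [hlc, (hmv c).1, (hmv c).2, map_add]
    rw [hlc, map_add, Set.Sum.elim_range, Submodule.span_union] at hc
    obtain ⟨w₁, hw₁, w₂, hw₂, e⟩ := Submodule.mem_sup.1 hc
    have h0 : g (Fintype.linearCombination F e₁ (c ∘ Sum.inl)) - w₁ =
        w₂ - g (Fintype.linearCombination F e₂ (c ∘ Sum.inr)) := by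
      rw [sub_eq_sub_iff_add_eq_add, ← e]; abel
    have z1 : g (Fintype.linearCombination F e₁ (c ∘ Sum.inl)) - w₁ = 0 :=
      Submodule.disjoint_def.1 hd _ (sub_mem (hg1 _ (hl1 _)) (hs1 hw₁))
        (h0 ▸ sub_mem (hs2 hw₂) (hg2 _ (hl2 _)))
    rw [z1, eq_comm, sub_eq_zero] at h0
    rw [sub_eq_zero] at z1
    rw [he₁.fix _ (z1 ▸ hw₁), he₂.fix _ (h0 ▸ hw₂)]

end CfsgLib.SpComm
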