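import Cfsg.Agent.Lib.Classical.SpComm.Good

/-!
# Three elements: a plane plus a plane on which `g = -1`
-/

set_option autoImplicit false
set_option linter.unusedSectionVars false

namespace CfsgLib.SpComm

open Matrix Module

variable {F V : Type*} [Field F] [AddCommGroup V] [Module F V] [FiniteDimensional F V]
variable {B : LinearMap.BilinForm F V}

/-- `M ⊕ (-1)` in dimension four. -/
abbrev joinNeg {K : Type*} [Field K] (M : Matrix (Fin 1 ⊕ Fin 1) (Fin 1 ⊕ Fin 1) K) :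
    Matrix (Fin 2 ⊕ Fin 2) (Fin 2 ⊕ Fin 2) K :=
  fromBlocks !![M (.inl 0) (.inl 0), 0; 0, -1] !![M (.inl 0) (.inr 0), 0; 0, 0]
    !![M (.inr 0) (.inl 0), 0; 0, 0] !![M (.inr 0) (.inr 0), 0; 0, -1]

/-- A two by two matrix in sum coordinates. -/
abbrev mk2 {K : Type*} [Field K] (M : Matrix (Fin 2) (Fin 2) K) :
    Matrix (Fin 1 ⊕ Fin 1) (Fin 1 ⊕ Fin 1) K :=
  M.submatrix finSumFinEquiv finSumFinEquiv

/-- Four by four matrices in sum coordinates. -/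
abbrev mk4 {K : Type*} [Field K] (M : Matrix (Fin 4) (Fin 4) K) :
    Matrix (Fin 2 ⊕ Fin 2) (Fin 2 ⊕ Fin 2) K :=
  M.submatrix finSumFinEquiv finSumFinEquiv

theorem sl2_three_reps : ∀ a b c d : ZMod 3, a * d - b * c = 1 →
    ∃ p q r s : ZMod 3, p * s - q * r = 1 ∧
      ∃ R ∈ ([!![1, 0; 0, 1], !![2, 0; 0, 2], !![0, 2; 1, 0], !![1, 1; 0, 1], !![2, 2; 0, 2], !![1, 2; 0, 1],
        !![2, 1; 0, 2]] : List (Matrix (Fin 2) (Fin 2) (ZMod 3))),
        !![a, b; c, d] * !![p, q; r, s] = !![p, q; r, s] * R := by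
  decide +kernel

/-- Every element of `Sp₂(3)` becomes one of seven matrices; the first three are commutators, the others
become commutators after adding `-1` in two more dimensions. -/
theorem sp2_three (G : symplecticGroup (Fin 1) (ZMod 3)) :
    ∃ P R : symplecticGroup (Fin 1) (ZMod 3), G * P = P * R ∧
      ((∃ p q, R = p * q * p⁻¹ * q⁻¹) ∨ ∃ p q : symplecticGroup (Fin 2) (ZMod 3),
        joinNeg (R : Matrix (Fin 1 ⊕ Fin 1) (Fin 1 ⊕ Fin 1) (ZMod 3)) =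
          (p * q * p⁻¹ * q⁻¹ : symplecticGroup (Fin 2) (ZMod 3))) := by
  have mem2 : ∀ a b c d : ZMod 3, a * d - b * c = 1 →
      mk2 !![a, b; c, d] ∈ symplecticGroup (Fin 1) (ZMod 3) := by
    simp only [SymplecticGroup.mem_iff']
    decide +kernel
  set M := (G : Matrix (Fin 1 ⊕ Fin 1) (Fin 1 ⊕ Fin 1) (ZMod 3)) with hM
  have hdet : M (.inl 0) (.inl 0) * M (.inr 0) (.inr 0) - M (.inl 0) (.inr 0) * M (.inr 0) (.inl 0) = 1 := by
    have := congrFun (congrFun (SymplecticGroup.mem_iff'.1 G.2) (.inr 0)) (.inl 0)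
    simp [Matrix.mul_apply, J, Fintype.sum_sum_type, ← hM] at this
    linear_combination this
  obtain ⟨p, q, r, s, hps, R, hR, e⟩ := sl2_three_reps _ _ _ _ hdet
  have hMe : M = mk2 !![M (.inl 0) (.inl 0), M (.inl 0) (.inr 0); M (.inr 0) (.inl 0), M (.inr 0) (.inr 0)] := by
    ext i j
    rcases i with i | i <;> rcases j with j | j <;> fin_cases i <;> fin_cases j <;> rfl
  have hRmem : mk2 R ∈ symplecticGroup (Fin 1) (ZMod 3) := by
    fin_cases hR <;> exact mem2 _ _ _ _ (by decide +kernel)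
  refine ⟨⟨mk2 !![p, q; r, s], mem2 _ _ _ _ hps⟩, ⟨mk2 R, hRmem⟩, Subtype.ext ?_, ?_⟩
  · show M * mk2 !![p, q; r, s] = mk2 !![p, q; r, s] * mk2 R
    rw [hMe]
    simp only [mk2, submatrix_mul_equiv, e]
  have inv2 : ∀ {n : ℕ} (R' : symplecticGroup (Fin n) (ZMod 3)) (p q : symplecticGroup (Fin n) (ZMod 3)),
      R' * q * p = p * q → R' = p * q * p⁻¹ * q⁻¹ := fun R' p q h => by
    rw [← h]; group
  have inv2' : ∀ {n : ℕ} (R' : symplecticGroup (Fin n) (ZMod 3)) (p q : symplecticGroup (Fin n) (ZMod 3)),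
      R' * p * q = q * p → R' = q * p * q⁻¹ * p⁻¹ := fun R' p q h => by
    rw [← h]; group
  have mem4 : ∀ M : Matrix (Fin 4) (Fin 4) (ZMod 3),
      (mk4 M)ᵀ * J (Fin 2) (ZMod 3) * mk4 M = J (Fin 2) (ZMod 3) → mk4 M ∈ symplecticGroup (Fin 2) (ZMod 3) :=
    fun M h => SymplecticGroup.mem_iff'.2 h
  set A1 : symplecticGroup (Fin 2) (ZMod 3) :=
    ⟨mk4 !![1, 2, 2, 0; 2, 2, 0, 2; 2, 1, 0, 1; 2, 2, 1, 0], mem4 _ (by decide +kernel)⟩
  set B1 : symplecticGroup (Fin 2) (ZMod 3) :=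
    ⟨mk4 !![2, 1, 2, 1; 1, 0, 2, 1; 0, 2, 2, 2; 1, 2, 2, 0], mem4 _ (by decide +kernel)⟩
  set A2 : symplecticGroup (Fin 2) (ZMod 3) :=
    ⟨mk4 !![0, 2, 2, 2; 2, 2, 0, 1; 1, 1, 1, 1; 2, 0, 0, 2], mem4 _ (by decide +kernel)⟩
  set B2 : symplecticGroup (Fin 2) (ZMod 3) :=
    ⟨mk4 !![1, 2, 2, 1; 0, 0, 1, 1; 1, 2, 1, 2; 1, 1, 2, 2], mem4 _ (by decide +kernel)⟩
  have c4 : ∀ (W : Matrix (Fin 2 ⊕ Fin 2) (Fin 2 ⊕ Fin 2) (ZMod 3)) (p q : symplecticGroup (Fin 2) (ZMod 3)),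
      W * ((q * p : symplecticGroup (Fin 2) (ZMod 3)) : Matrix (Fin 2 ⊕ Fin 2) (Fin 2 ⊕ Fin 2) (ZMod 3)) =
        (p * q : symplecticGroup (Fin 2) (ZMod 3)) →
      W = (p * q * p⁻¹ * q⁻¹ : symplecticGroup (Fin 2) (ZMod 3)) := fun W p q h => by
    rw [show p * q * p⁻¹ * q⁻¹ = (p * q) * (q * p)⁻¹ by group, Submonoid.coe_mul, ← h, Matrix.mul_assoc,
      ← Submonoid.coe_mul, mul_inv_cancel, Submonoid.coe_one, Matrix.mul_one]
  fin_cases hR
  · exact .inl ⟨1, 1, Subtype.ext (by simp; decide +kernel)⟩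
  · exact .inl ⟨⟨mk2 !![0, 1; 2, 0], mem2 _ _ _ _ (by decide +kernel)⟩,
      ⟨mk2 !![1, 1; 1, 2], mem2 _ _ _ _ (by decide +kernel)⟩, inv2 _ _ _ (Subtype.ext (by
        simp only [Submonoid.coe_mul]; decide +kernel))⟩
  · exact .inl ⟨⟨mk2 !![0, 1; 2, 1], mem2 _ _ _ _ (by decide +kernel)⟩,
      ⟨mk2 !![0, 1; 2, 2], mem2 _ _ _ _ (by decide +kernel)⟩, inv2 _ _ _ (Subtype.ext (by
        simp only [Submonoid.coe_mul]; decide +kernel))⟩
  · exact .inr ⟨A1, B1, c4 _ _ _ (by simp only [A1, B1, Submonoid.coe_mul]; decide +kernel)⟩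
  · exact .inr ⟨A2, B2, c4 _ _ _ (by simp only [A2, B2, Submonoid.coe_mul]; decide +kernel)⟩
  · exact .inr ⟨B1, A1, c4 _ _ _ (by simp only [A1, B1, Submonoid.coe_mul]; decide +kernel)⟩
  · exact .inr ⟨B2, A2, c4 _ _ _ (by simp only [A2, B2, Submonoid.coe_mul]; decide +kernel)⟩

theorem joinNeg_map {K L : Type*} [Field K] [Field L] (φ : K →+* L)
    (M : Matrix (Fin 1 ⊕ Fin 1) (Fin 1 ⊕ Fin 1) K) : (joinNeg M).map φ = joinNeg (M.map φ) := by
  ext i j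
  rcases i with i | i <;> rcases j with j | j <;> fin_cases i <;> fin_cases j <;> simp

/-- The map of symplectic groups of a field homomorphism. -/
def spMap {K L : Type*} [Field K] [Field L] {n : Type*} [Fintype n] [DecidableEq n] (φ : K →+* L) :
    symplecticGroup n K →* symplecticGroup n L where
  toFun M := ⟨(M : Matrix (n ⊕ n) (n ⊕ n) K).map φ, SymplecticGroup.map_mem M.2 φ⟩
  map_one' := Subtype.ext (Matrix.map_one _ φ.map_zero φ.map_one)
  map_mul' _ _ := Subtype.ext Matrix.map_mul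

theorem Frame.change {ι : Type*} [Fintype ι] [DecidableEq ι] {U : Submodule F V} {P : ι ⊕ ι → V}
    (hP : Frame B U P) (M : symplecticGroup ι F) :
    Frame B U (fun k => comb P ((M : Matrix (ι ⊕ ι) (ι ⊕ ι) F) *ᵥ Pi.single k 1)) ∧
      ∀ c, comb (fun k => comb P ((M : Matrix (ι ⊕ ι) (ι ⊕ ι) F) *ᵥ Pi.single k 1)) c =
        comb P ((M : Matrix (ι ⊕ ι) (ι ⊕ ι) F) *ᵥ c) := by
  have key : ∀ c, comb (fun k => comb P ((M : Matrix (ι ⊕ ι) (ι ⊕ ι) F) *ᵥ Pi.single k 1)) c =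
      comb P ((M : Matrix (ι ⊕ ι) (ι ⊕ ι) F) *ᵥ c) := fun c => by
    rw [comb, Fintype.linearCombination_apply]
    have hc : c = ∑ k, c k • Pi.single k (1 : F) := by funext k; simp [Pi.single_apply]
    conv_rhs => rw [hc, Matrix.mulVec_sum]
    simp only [map_sum, mulVec_smul, map_smul]
  refine ⟨⟨fun k => hP.comb_mem _, fun k l => ?_, fun x hx => ?_⟩, key⟩
  · rw [hP.form_comb, mulVec_single_one, mulVec_single_one, dotProduct_mulVec]
    exact congrFun (congrFun (SymplecticGroup.mem_iff'.1 M.2) k) l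
  · rw [← Fintype.range_linearCombination]
    refine ⟨((M⁻¹ : symplecticGroup ι F) : Matrix (ι ⊕ ι) (ι ⊕ ι) F) *ᵥ coord B P x, ?_⟩
    rw [← comb, key, mulVec_mulVec, ← Submonoid.coe_mul, mul_inv_cancel, Submonoid.coe_one, one_mulVec,
      hP.comb_coord hx]

/-- A plane and a plane on which `g = -1`, over three elements. -/
theorem commOn_plane_sup_neg [Fintype F] (hq : Fintype.card F = 3) (hB : B.IsAlt) {g : V ≃ₗ[F] V}
    (hg : Isom B g) {U N : Submodule F V} {P : Fin 1 ⊕ Fin 1 → V} {Q : Fin 1 ⊕ Fin 1 → V}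
    (hP : Frame B U P) (hQ : Frame B N Q) (hgU : Stab U g) (hneg : ∀ x ∈ N, g x = -x)
    (hUN : ∀ x ∈ U, ∀ y ∈ N, B x y = 0) (hcommN : CommOn B N g) :
    CommOn B (U ⊔ N) g := by
  haveI : Fact (Nat.Prime 3) := ⟨Nat.prime_three⟩
  haveI : CharP F 3 := charP_of_card_eq_prime hq
  let φ : ZMod 3 →+* F := ZMod.castHom dvd_rfl F
  have hφ : Function.Bijective φ := (Fintype.bijective_iff_injective_and_card φ).2
    ⟨φ.injective, by rw [hq, ZMod.card]⟩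
  obtain ⟨G, hG⟩ := exists_matrix hP hg hgU
  let e := RingEquiv.ofBijective φ hφ
  obtain ⟨G', rfl⟩ : ∃ G', spMap φ G' = G := ⟨spMap (e.symm : F →+* ZMod 3) G, Subtype.ext (by
    ext i j
    exact e.apply_symm_apply _)⟩
  obtain ⟨M, R, hMR, hcase⟩ := sp2_three G'
  obtain ⟨hP', hcomb⟩ := hP.change (spMap φ M)
  set P' : Fin 1 ⊕ Fin 1 → V :=
    fun k => comb P ((spMap φ M : Matrix (Fin 1 ⊕ Fin 1) (Fin 1 ⊕ Fin 1) F) *ᵥ Pi.single k 1)
  have hG' : ∀ c, g (comb P' c) =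
      comb P' ((spMap φ R : Matrix (Fin 1 ⊕ Fin 1) (Fin 1 ⊕ Fin 1) F) *ᵥ c) := fun c => by
    rw [hcomb, hcomb, hG, mulVec_mulVec, mulVec_mulVec, ← Submonoid.coe_mul, ← Submonoid.coe_mul,
      ← map_mul, ← map_mul, hMR]
  have hNU : ∀ x ∈ U, ∀ y ∈ N, B y x = 0 := fun x hx y hy => by
    rw [← LinearMap.IsAlt.neg hB, hUN x hx y hy, neg_zero]
  rcases hcase with ⟨p, q, hpq⟩ | ⟨p, q, hpq⟩
  · refine (commOn_of_matrix hB hP' (p := spMap φ p) (q := spMap φ q) hG' ?_).sup B hcommN hUN hNU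
    rw [hpq]; simp
  let W : Fin 2 ⊕ Fin 2 → V :=
    Sum.elim ![P' (.inl 0), Q (.inl 0)] ![P' (.inr 0), Q (.inr 0)]
  have hW : Frame B (U ⊔ N) W := by
    refine ⟨?_, ?_, ?_⟩
    · rintro (i | i) <;> fin_cases i
      · exact Submodule.mem_sup_left (hP'.mem _)
      · exact Submodule.mem_sup_right (hQ.mem _)
      · exact Submodule.mem_sup_left (hP'.mem _)
      · exact Submodule.mem_sup_right (hQ.mem _)
    · rintro (i | i) (j | j) <;> fin_cases i <;> fin_cases j <;>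
        simp [W, hP'.gram, hQ.gram, hUN _ (hP'.mem _) _ (hQ.mem _), hNU _ (hP'.mem _) _ (hQ.mem _), J]
    · refine sup_le (hP'.span.trans ?_) (hQ.span.trans ?_) <;> rw [Submodule.span_le] <;>
        rintro _ ⟨i | i, rfl⟩ <;> fin_cases i
      · exact Submodule.subset_span ⟨.inl 0, rfl⟩
      · exact Submodule.subset_span ⟨.inr 0, rfl⟩
      · exact Submodule.subset_span ⟨.inl 1, rfl⟩
      · exact Submodule.subset_span ⟨.inr 1, rfl⟩
  refine commOn_of_matrix hB hW (G := spMap φ (p * q * p⁻¹ * q⁻¹)) (p := spMap φ p) (q := spMap φ q)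
    (fun c => ?_) (by simp)
  have hcW : ∀ c : Fin 2 ⊕ Fin 2 → F, comb W c =
      comb P' (Sum.elim ![c (.inl 0)] ![c (.inr 0)]) + comb Q (Sum.elim ![c (.inl 1)] ![c (.inr 1)]) := fun c => by
    simp [comb, Fintype.linearCombination_apply, Fintype.sum_sum_type, W, Fin.sum_univ_two]
    abel
  rw [hcW c, map_add, hG', hneg _ (hQ.comb_mem _)]
  show _ = comb W ((((p * q * p⁻¹ * q⁻¹ : symplecticGroup (Fin 2) (ZMod 3)) :
    Matrix (Fin 2 ⊕ Fin 2) (Fin 2 ⊕ Fin 2) (ZMod 3)).map φ) *ᵥ c)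
  rw [← hpq, joinNeg_map, hcW, ← map_neg]
  congr 1 <;> congr 1 <;> funext i <;> rcases i with i | i <;> fin_cases i <;>
    simp [mulVec, dotProduct, Fintype.sum_sum_type, Fin.sum_univ_two, spMap]

end CfsgLib.SpComm
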