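import Cfsg.Agent.Lib.Classical.SpComm.Piece
import Cfsg.Agent.Lib.Classical.SpComm.Witness
import Cfsg.Agent.Lib.Classical.SpComm.SmallThree

/-!
# Every element of a symplectic group is a commutator
-/

set_option autoImplicit false
set_option linter.unusedSectionVars false

namespace CfsgLib.SpComm

open Matrix Polynomial Module

variable {F V : Type*} [Field F] [AddCommGroup V] [Module F V] [FiniteDimensional F V]
variable {B : LinearMap.BilinForm F V}

theorem good1_bot (g : V ≃ₗ[F] V) : Good1 B ⊥ g :=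
  ⟨0, Fin.elim0, fun i => i.elim0, linearIndependent_empty_type, by simp, fun i => i.elim0,
    fun c d => by simp [Fintype.linearCombination_apply],
    fun c _ => by simp [Fintype.linearCombination_apply]⟩

theorem Good1.sup (hB : B.IsAlt) {U₁ U₂ : Submodule F V} {g : V ≃ₗ[F] V} (h1 : NDOn B U₁)
    (hg1 : Stab U₁ g) (hg2 : Stab U₂ g) (k1 : Good1 B U₁ g) (k2 : Good1 B U₂ g)
    (h12 : ∀ x ∈ U₁, ∀ y ∈ U₂, B x y = 0) : Good1 B (U₁ ⊔ U₂) g := by
  obtain ⟨n, e, he⟩ := k1
  obtain ⟨n', e', he'⟩ := k2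
  have := he.sup hB h1 hg1 hg2 he' h12
  rw [fromBlocks_one] at this
  exact this.good1

/-- Every stable nondegenerate subspace is good or contains a negative piece. -/
theorem good_or_neg (hB : B.IsAlt) {g : V ≃ₗ[F] V} (hg : Isom B g) :
    ∀ U : Submodule F V, NDOn B U → Stab U g →
      Good1 B U g ∨ ((2 : F) ≠ 0 ∧ ∃ N ≤ U, N ≠ ⊥ ∧ NDOn B N ∧ Stab N g ∧ NegP B N g) := by
  intro U
  induction hm : finrank F U using Nat.strong_induction_on generalizing U with
  | _ m ih =>
    subst hm
    intro hU hgU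
    by_cases hne : U = ⊥
    · subst hne; exact .inl (good1_bot g)
    obtain ⟨N, hNU, hN0, hN, hgN, hgood | ⟨h2, hneg⟩⟩ := piece hB hg U hne hU hgU
    · obtain ⟨hU', hgU', hsup, horth, hdim⟩ := split_off hB hU hN hNU hg hgU hgN
      have hpos : 0 < finrank F N := Nat.pos_of_ne_zero fun h => hN0 (Submodule.finrank_eq_zero.1 h)
      rcases ih _ (by omega) (U ⊓ perp B N) rfl hU' hgU' with h | ⟨h2, N', hN', rest⟩
      · left
        rw [← hsup]
        exact Good1.sup hB hN hgN hgU' hgood h horth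
      · exact .inr ⟨h2, N', hN'.trans inf_le_left, rest⟩
    · exact .inr ⟨h2, N, hNU, hN0, hN, hgN, hneg⟩

theorem exists_frame_of_plane (hB : B.IsAlt) {N : Submodule F V} (hN : NDOn B N) (hd : finrank F N = 2) :
    ∃ Q : Fin 1 ⊕ Fin 1 → V, Frame B N Q := by
  obtain ⟨v, hv, hv0⟩ : ∃ v ∈ N, v ≠ 0 := by
    by_contra h
    push Not at h
    have : N = ⊥ := (Submodule.eq_bot_iff _).2 h
    rw [this, finrank_bot] at hd
    omega
  obtain ⟨P, hP, -⟩ := exists_frame_extend hB hN (e := fun _ : Fin 1 => v) (fun _ => hv)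
    (LinearIndependent.of_subsingleton 0 hv0) (by rw [Fintype.card_fin, hd])
    (fun _ _ => hB v)
  exact ⟨P, hP⟩

theorem exists_sq_add_sq_neg_one [Fintype F] (h2 : (2 : F) ≠ 0) : ∃ a b : F, a * a + b * b = -1 := by
  have hodd : Fintype.card F % 2 = 1 := by
    have : ringChar F ≠ 2 := fun e => h2 (by
      have := ringChar.Nat.cast_ringChar (R := F)
      rw [e] at this; exact_mod_cast this)
    exact FiniteField.odd_card_of_char_ne_two this
  obtain ⟨a, b, hab⟩ := FiniteField.exists_root_sum_quadratic (f := (Polynomial.X : F[X]) ^ 2)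
    (g := Polynomial.X ^ 2 + Polynomial.C 1) (Polynomial.degree_X_pow 2)
    (Polynomial.degree_X_pow_add_C two_pos 1) hodd
  simp at hab
  exact ⟨a, b, by linear_combination hab⟩

/-- `-1` on a plane is a commutator. -/
theorem commOn_neg_plane [Fintype F] (h2 : (2 : F) ≠ 0) (hB : B.IsAlt) {g : V ≃ₗ[F] V}
    {N : Submodule F V} (hN : NDOn B N) (hd : finrank F N = 2) (hneg : ∀ x ∈ N, g x = -x) :
    CommOn B N g := by
  obtain ⟨Q, hQ⟩ := exists_frame_of_plane hB hN hd
  obtain ⟨a, b, hab⟩ := exists_sq_add_sq_neg_one h2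
  let p : symplecticGroup (Fin 1) F := SymplecticGroup.symJ (Fin 1) F
  let q : symplecticGroup (Fin 1) F := ⟨fromBlocks (a • 1) (b • 1) (b • 1) (-a • 1), mem_of_blocks
    (by simp [smul_comm a b]) (by simp [smul_comm a b]) (by
      simp only [transpose_smul, transpose_one, smul_mul_smul_comm, Matrix.mul_one, ← sub_smul]
      rw [show a * -a - b * b = 1 by linear_combination -hab, one_smul])⟩
  let G : symplecticGroup (Fin 1) F := ⟨-1, SymplecticGroup.neg_mem (one_mem _)⟩
  refine commOn_of_matrix hB hQ (G := G) (p := p) (q := q) (fun c => ?_) ?_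
  · rw [hneg _ (hQ.comb_mem c)]
    simp [G, neg_mulVec]
  · have e : G * q * p = p * q := by
      apply ext_val
      simp only [Submonoid.coe_mul, G, p, q, SymplecticGroup.coe_J, J, Matrix.neg_mul, Matrix.one_mul,
        fromBlocks_neg, fromBlocks_multiply]
      simp
    rw [← e]; group

theorem okH_one_of_zero (h : F[X]) {n : ℕ} (hn : n = 0) : OkH h (1 : Matrix (Fin n) (Fin n) F) :=
  okH_empty h hn

theorem NegP.two_le {N : Submodule F V} {g : V ≃ₗ[F] V} (h : NegP B N g) : 2 ≤ finrank F N := by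
  rcases h with ⟨h, -⟩ | ⟨j, hj, e, he⟩
  · omega
  · rw [← he.card, Fintype.card_sum, Fintype.card_fin, Fintype.card_fin]; omega

theorem Good1.even {U : Submodule F V} {g : V ≃ₗ[F] V} (h : Good1 B U g) :
    ∃ n, finrank F U = 2 * n := by
  obtain ⟨n, e, he⟩ := h
  exact ⟨n, by rw [← he.card, Fintype.card_fin]⟩

theorem Good1.commOn (hB : B.IsAlt) {g : V ≃ₗ[F] V} (hg : Isom B g) {U : Submodule F V} (hU : NDOn B U)
    (hgU : Stab U g) (h : Good1 B U g) {hp : F[X]}
    (hok : ∀ n, finrank F U = 2 * n → OkH hp (1 : Matrix (Fin n) (Fin n) F)) : CommOn B U g := by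
  obtain ⟨n, e, he⟩ := h
  exact he.commOn hB hU hg hgU (hok n (by rw [← he.card, Fintype.card_fin]))

/-- Negative pieces are commutators. -/
theorem NegP.commOn [Fintype F] (h2 : (2 : F) ≠ 0) (hB : B.IsAlt) {g : V ≃ₗ[F] V} (hg : Isom B g)
    {N : Submodule F V} (hN : NDOn B N) (hgN : Stab N g) (h : NegP B N g) {hp : F[X]}
    (hok : ∀ j, 1 ≤ j → OkH hp (sgnMat F j)) : CommOn B N g := by
  rcases h with ⟨hd, hneg⟩ | ⟨j, hj, e, he⟩
  · exact commOn_neg_plane h2 hB hN hd hneg
  · exact he.commOn hB hN hg hgN (hok j hj)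

theorem commOn_large [Fintype F] (hq : 4 ≤ Fintype.card F) (hB : B.IsAlt) {g : V ≃ₗ[F] V} (hg : Isom B g) :
    ∀ U : Submodule F V, NDOn B U → Stab U g → CommOn B U g := by
  obtain ⟨hp, hone, hsgn⟩ := exists_okH_large (F := F) hq
  intro U
  induction hm : finrank F U using Nat.strong_induction_on generalizing U with
  | _ m ih =>
    subst hm
    intro hU hgU
    rcases good_or_neg hB hg U hU hgU with h | ⟨h2, N, hNU, -, hN, hgN, hneg⟩
    · exact h.commOn hB hg hU hgU fun n _ => hone n
    · obtain ⟨hU', hgU', hsup, horth, hdim⟩ := split_off hB hU hN hNU hg hgU hgN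
      have := hneg.two_le
      rw [← hsup]
      exact (hneg.commOn h2 hB hg hN hgN fun j _ => hsgn h2 j).sup B (ih _ (by omega) _ rfl hU' hgU')
        horth (fun x hx y hy => hy.2 x hx)

theorem commOn_three [Fintype F] (hq : Fintype.card F = 3) (hB : B.IsAlt) {g : V ≃ₗ[F] V} (hg : Isom B g) :
    ∀ U : Submodule F V, NDOn B U → Stab U g → finrank F U ≠ 2 → CommOn B U g := by
  obtain ⟨hp, hone, hsgn⟩ := exists_okH_three (F := F) hq
  intro U
  induction hm : finrank F U using Nat.strong_induction_on generalizing U with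
  | _ m ih =>
    subst hm
    intro hU hgU hne2
    rcases good_or_neg hB hg U hU hgU with h | ⟨h2, N, hNU, -, hN, hgN, hneg⟩
    · obtain ⟨n, e, he⟩ := h
      have hc := he.card
      rw [Fintype.card_fin] at hc
      rcases (by omega : n = 0 ∨ n = 1 ∨ 2 ≤ n) with hn | hn | hn
      · exact he.commOn hB hU hg hgU (h := hp) (okH_empty hp hn)
      · omega
      · exact he.commOn hB hU hg hgU (hone n hn)
    obtain ⟨hU', hgU', hsup, horth, hdim⟩ := split_off hB hU hN hNU hg hgU hgN
    have h2N := hneg.two_le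
    have hcN := hneg.commOn h2 hB hg hN hgN hsgn
    have horth' : ∀ x ∈ N, ∀ y ∈ U ⊓ perp B N, B y x = 0 := fun x hx y hy => hy.2 x hx
    rw [← hsup]
    by_cases h2' : finrank F ↥(U ⊓ perp B N) = 2
    swap
    · exact hcN.sup B (ih _ (by omega) _ rfl hU' hgU' h2') horth horth'
    rcases good_or_neg hB hg _ hU' hgU' with hgood | ⟨-, N', hN'le, -, hN', hgN', hneg'⟩
    swap
    · have := hneg'.two_le
      have hEq : N' = U ⊓ perp B N := Submodule.eq_of_le_of_finrank_le hN'le (by omega)
      rw [hEq] at hneg' hN' hgN'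
      exact hcN.sup B (hneg'.commOn h2 hB hg hN' hgN' hsgn) horth horth'
    rcases hneg with ⟨hd, hn⟩ | ⟨j, hj, e, he⟩
    · obtain ⟨P, hP⟩ := exists_frame_of_plane hB hU' h2'
      obtain ⟨Q, hQ⟩ := exists_frame_of_plane hB hN hd
      rw [sup_comm]
      exact commOn_plane_sup_neg hq hB hg hP hQ hgU' hn (fun x hx y hy => horth' y hy x hx) hcN
    · obtain ⟨n, e', he'⟩ := hgood
      have hc := he'.card
      rw [Fintype.card_fin] at hc
      have hn1 : n = 1 := by omega
      subst hn1
      have hs := he.sup hB hN hgN hgU' he' horth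
      have hok : OkH hp (fromBlocks (sgnMat F j) 0 0 (1 : Matrix (Fin 1) (Fin 1) F)) := by
        have := (hsgn (j + 1) (by omega)).equiv
          ((Equiv.sumAssoc _ _ _).trans (Equiv.sumCongr (Equiv.refl (Fin 2)) (finSumFinEquiv (m := j) (n := 1))))
        convert this using 1
        ext a b
        rcases a with (a | a) | a <;> rcases b with (b | b) | b <;>
          simp [Matrix.one_apply, Fin.ext_iff] <;> omega
      have hsupND : NDOn B (N ⊔ (U ⊓ perp B N)) := by rw [hsup]; exact hU
      have hsupSt : Stab (N ⊔ (U ⊓ perp B N)) g := by rw [hsup]; exact hgU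
      exact hs.commOn hB hsupND hg hsupSt hok

theorem commOn_two [Fintype F] (hq : Fintype.card F = 2) (hB : B.IsAlt) {g : V ≃ₗ[F] V} (hg : Isom B g)
    (U : Submodule F V) (hU : NDOn B U) (hgU : Stab U g) (h6 : 6 ≤ finrank F U) : CommOn B U g := by
  obtain ⟨hp, hone⟩ := exists_okH_two (F := F) hq
  rcases good_or_neg hB hg U hU hgU with h | ⟨h2, -⟩
  · exact h.commOn hB hg hU hgU fun n hn => hone n (by omega)
  · exact absurd (by
      have := FiniteField.cast_card_eq_zero F
      rw [hq] at this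
      exact_mod_cast this) h2

/-- Every element of a symplectic group is a commutator. -/
theorem exists_commutator_sp [Fintype F] (m : ℕ) (h1 : m = 1 → 4 ≤ Fintype.card F)
    (h2 : m = 2 → 3 ≤ Fintype.card F) (g : symplecticGroup (Fin m) F) :
    ∃ a b : symplecticGroup (Fin m) F, g = a * b * a⁻¹ * b⁻¹ := by
  by_cases hm0 : m = 0
  · subst hm0
    exact ⟨1, 1, ext_val (Subsingleton.elim _ _)⟩
  set B : LinearMap.BilinForm F (Fin m ⊕ Fin m → F) := Matrix.toBilin' (J (Fin m) F) with hBdef
  have hBapp : ∀ x y, B x y = x ⬝ᵥ (J (Fin m) F *ᵥ y) := fun x y => Matrix.toBilin'_apply' _ x y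
  have hB : B.IsAlt := fun x => by
    rw [hBapp]
    simp [J, fromBlocks_mulVec, dotProduct, Fintype.sum_sum_type, neg_mulVec, mul_comm]
  let P : Fin m ⊕ Fin m → (Fin m ⊕ Fin m → F) := fun k => Pi.single k 1
  have hP : Frame B ⊤ P := ⟨fun k => trivial, fun k l => by simp [P, hBapp], fun x _ => by
    rw [show x = ∑ k, x k • P k by funext i; simp [P, Pi.single_apply]]
    exact Submodule.sum_mem _ fun k _ => Submodule.smul_mem _ _ (Submodule.subset_span ⟨k, rfl⟩)⟩
  have hcomb : ∀ c, comb P c = c := fun c => by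
    funext i; simp [comb, Fintype.linearCombination_apply, P, Pi.single_apply]
  let g' := hP.equiv g
  have hg : Isom B g' := (hP.isomOn hB g).isom
  have hgapp : ∀ x, g' x = (g : Matrix (Fin m ⊕ Fin m) (Fin m ⊕ Fin m) F) *ᵥ x := fun x => by
    conv_lhs => rw [← hcomb x]
    rw [hP.equiv_apply, hP.actMat_comb, hcomb]
  have hND : NDOn B ⊤ := fun x _ h => by
    have := hP.comb_coord (x := x) trivial
    rw [coord_apply, show (fun l => B x (P l)) = 0 from funext fun l => h _ trivial, mulVec_zero, map_zero] at this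
    exact this.symm
  have hfr : finrank F (⊤ : Submodule F (Fin m ⊕ Fin m → F)) = 2 * m := by
    rw [finrank_top, Module.finrank_fintype_fun_eq_card, Fintype.card_sum, Fintype.card_fin]; ring
  have hst : Stab (⊤ : Submodule F (Fin m ⊕ Fin m → F)) g' := fun _ _ => trivial
  have hcomm : CommOn B ⊤ g' := by
    have h2le : 2 ≤ Fintype.card F := Fintype.one_lt_card
    rcases (by omega : Fintype.card F = 2 ∨ Fintype.card F = 3 ∨ 4 ≤ Fintype.card F) with hq | hq | hq
    · exact commOn_two hq hB hg ⊤ hND hst (by omega)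
    · refine commOn_three hq hB hg ⊤ hND hst ?_
      rw [hfr]; omega
    · exact commOn_large hq hB hg ⊤ hND hst
  obtain ⟨a, b, ha, hb, e⟩ := hcomm
  obtain ⟨A, hA⟩ := exists_matrix hP ha.isom (fun x _ => trivial)
  obtain ⟨C, hC⟩ := exists_matrix hP hb.isom (fun x _ => trivial)
  have e' : g * C * A = A * C := by
    apply ext_val
    refine Matrix.ext_of_mulVec_single fun k => ?_
    simp only [Submonoid.coe_mul, ← mulVec_mulVec]
    have hA' : ∀ c, a c = (A : Matrix (Fin m ⊕ Fin m) (Fin m ⊕ Fin m) F) *ᵥ c := fun c => by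
      simpa [hcomb] using hA c
    have hC' : ∀ c, b c = (C : Matrix (Fin m ⊕ Fin m) (Fin m ⊕ Fin m) F) *ᵥ c := fun c => by
      simpa [hcomb] using hC c
    rw [← hA', ← hC', ← hgapp, ← hC', ← hA']
    exact e _ trivial
  exact ⟨A, C, by rw [← e']; group⟩

end CfsgLib.SpComm
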