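import Cfsg.Agent.Lib.Classical.SpComm.Trace

/-!
# The rank two piece of a unipotent (up to sign) isometry
-/

set_option autoImplicit false
set_option linter.unusedSectionVars false

namespace CfsgLib.SpComm

open Matrix Polynomial Module

variable {F V : Type*} [Field F] [AddCommGroup V] [Module F V] [FiniteDimensional F V]
variable {B : LinearMap.BilinForm F V}

/-- `g - ε`. -/
def sh (g : V ≃ₗ[F] V) (ε : F) : Module.End F V := (g : V →ₗ[F] V) - ε • LinearMap.id

/-- `g⁻¹` as an endomorphism. -/
def hi (g : V ≃ₗ[F] V) : Module.End F V := (g.symm : V →ₗ[F] V)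

theorem sh_apply (g : V ≃ₗ[F] V) (ε : F) (x : V) : sh g ε x = g x - ε • x := rfl

theorem hi_apply (g : V ≃ₗ[F] V) (x : V) : hi g x = g.symm x := rfl

theorem commute_sh_hi (g : V ≃ₗ[F] V) (ε : F) : Commute (sh g ε) (hi g) :=
  LinearMap.ext fun x => by simp [Module.End.mul_apply, sh_apply, hi_apply, map_sub]

theorem sq_sh_hi (g : V ≃ₗ[F] V) {ε : F} (hε : ε * ε = 1) :
    sh g ε ^ 2 * hi g = aeval (tr g) (Polynomial.X - C (2 * ε)) :=
  LinearMap.ext fun x => by
    simp only [pow_two, Module.End.mul_apply, map_sub, aeval_X, aeval_C, LinearMap.sub_apply,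
      Module.algebraMap_end_apply, tr_apply, sh_apply, hi_apply, map_smul, LinearEquiv.apply_symm_apply,
      smul_sub, smul_smul, hε, one_smul]
    module

theorem pow_sh_hi (g : V ≃ₗ[F] V) {ε : F} (hε : ε * ε = 1) (n : ℕ) :
    sh g ε ^ (2 * n) * hi g ^ n = aeval (tr g) ((Polynomial.X - C (2 * ε)) ^ n) := by
  rw [map_pow, ← sq_sh_hi g hε, ((commute_sh_hi g ε).pow_left 2).mul_pow, pow_mul]

theorem Stab.sh {U : Submodule F V} {g : V ≃ₗ[F] V} (hgU : Stab U g) (ε : F) {x : V} (hx : x ∈ U) :
    ∀ n : ℕ, (SpComm.sh g ε ^ n) x ∈ U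
  | 0 => by simpa using hx
  | n + 1 => by
    rw [pow_succ', Module.End.mul_apply, sh_apply]
    exact U.sub_mem (hgU _ (Stab.sh hgU ε hx n)) (U.smul_mem _ (Stab.sh hgU ε hx n))

theorem Stab.hi {U : Submodule F V} {g : V ≃ₗ[F] V} (hgU : Stab U g) {x : V} (hx : x ∈ U) :
    ∀ n : ℕ, (SpComm.hi g ^ n) x ∈ U
  | 0 => by simpa using hx
  | n + 1 => by
    rw [pow_succ', Module.End.mul_apply, hi_apply]
    exact hgU.symm _ (Stab.hi hgU hx n)

theorem adj_sh {g : V ≃ₗ[F] V} (hg : Isom B g) {ε : F} (hε : ε * ε = 1) (u w : V) :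
    B u (sh g ε w) = -ε * B (hi g (sh g ε u)) w ∧ B (sh g ε w) u = -ε * B w (hi g (sh g ε u)) := by
  have e : hi g (sh g ε u) = u - ε • g.symm u := by simp [sh_apply, hi_apply]
  rw [e]
  simp only [sh_apply, map_sub, map_smul, LinearMap.sub_apply, LinearMap.smul_apply, smul_eq_mul,
    hg.left_eq, hg.left_eq']
  constructor
  · linear_combination (-(B u (g w))) * hε
  · linear_combination (-(B w (g.symm u))) * hε

theorem pow_top {g : V ≃ₗ[F] V} {ε : F} (hε : ε * ε = 1) {k : ℕ} (hk : 0 < k) (m : ℕ) {u : V}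
    (hu : (sh g ε ^ k) u = 0) :
    (sh g ε ^ (k - 1)) ((hi g ^ m) u) = ε ^ m • (sh g ε ^ (k - 1)) u := by
  set y := (sh g ε ^ (k - 1)) u
  have hy : g y = ε • y := by
    rw [← sub_eq_zero, ← sh_apply, ← Module.End.mul_apply, ← pow_succ', Nat.sub_add_cancel hk, hu]
  have hy' : hi g y = ε • y := by
    apply g.injective
    rw [hi_apply, g.apply_symm_apply, map_smul, hy, smul_smul, hε, one_smul]
  rw [← Module.End.mul_apply, ((commute_sh_hi g ε).pow_pow (k - 1) m).eq, Module.End.mul_apply]
  induction m with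
  | zero => simp [y]
  | succ m ih => rw [pow_succ', Module.End.mul_apply, ih, map_smul, hy', smul_smul, pow_succ]

/-- Vanishing of the low coefficients. -/
theorem low_vanish {g : V ≃ₗ[F] V} {ε : F} (hε : ε * ε = 1) {k : ℕ} (hk : 0 < k) {v z : V}
    (hkill : ∀ (m : ℕ), (sh g ε ^ k) ((hi g ^ m) v) = 0 ∧ (sh g ε ^ k) ((hi g ^ m) z) = 0)
    (hvv : B ((sh g ε ^ (k - 1)) v) v = 0) (hvz : B ((sh g ε ^ (k - 1)) v) z = 1)
    (hzv : B ((sh g ε ^ (k - 1)) z) v = -1) (hzz : B ((sh g ε ^ (k - 1)) z) z = 0)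
    (m m' : Fin k → ℕ) (a : Fin k ⊕ Fin k → F) (n₀ : ℕ) (x : V)
    (hx : x = ∑ j, a (.inl j) • (sh g ε ^ (j : ℕ)) ((hi g ^ m j) v) +
      ∑ j, a (.inr j) • (sh g ε ^ (j : ℕ)) ((hi g ^ m' j) z))
    (h : ∀ n, n₀ ≤ n → B ((sh g ε ^ n) x) v = 0 ∧ B ((sh g ε ^ n) x) z = 0) :
    ∀ j : Fin k, (j : ℕ) + n₀ < k → a (.inl j) = 0 ∧ a (.inr j) = 0 := by
  intro j
  induction hj : (j : ℕ) using Nat.strong_induction_on generalizing j with
  | _ jv ih =>
    subst hj
    intro hjn
    set n := k - 1 - (j : ℕ) with hn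
    have hpow : ∀ (j' : Fin k) (w : V), (sh g ε ^ n) ((sh g ε ^ (j' : ℕ)) w) = (sh g ε ^ (n + j')) w :=
      fun j' w => by rw [← Module.End.mul_apply, ← pow_add]
    have hzero : ∀ (j' : Fin k) (w : V), (j : ℕ) < j' → (sh g ε ^ k) w = 0 →
        (sh g ε ^ (n + j')) w = 0 := by
      intro j' w hlt hw
      rw [show n + (j' : ℕ) = (n + j' - k) + k by omega, pow_add, Module.End.mul_apply, hw, map_zero]
    have e : (sh g ε ^ n) x = a (.inl j) • ε ^ m j • (sh g ε ^ (k - 1)) v +
        a (.inr j) • ε ^ m' j • (sh g ε ^ (k - 1)) z := by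
      rw [hx, map_add, map_sum, map_sum]
      simp only [map_smul, hpow]
      congr 1
      · rw [Finset.sum_eq_single j]
        · rw [show n + (j : ℕ) = k - 1 by omega,
            pow_top hε hk _ (by simpa using (hkill 0).1)]
        · intro j' _ hne
          rcases lt_trichotomy (j' : ℕ) j with h' | h' | h'
          · rw [(ih j' h' j' rfl (by omega)).1, zero_smul]
          · exact absurd (Fin.ext h') hne
          · rw [hzero j' _ h' (hkill _).1, smul_zero]
        · simp
      · rw [Finset.sum_eq_single j]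
        · rw [show n + (j : ℕ) = k - 1 by omega,
            pow_top hε hk _ (by simpa using (hkill 0).2)]
        · intro j' _ hne
          rcases lt_trichotomy (j' : ℕ) j with h' | h' | h'
          · rw [(ih j' h' j' rfl (by omega)).2, zero_smul]
          · exact absurd (Fin.ext h') hne
          · rw [hzero j' _ h' (hkill _).2, smul_zero]
        · simp
    obtain ⟨h1, h2⟩ := h n (by omega)
    have hε0 : ε ≠ 0 := fun h0 => one_ne_zero (α := F) (by rw [← hε, h0, mul_zero])
    rw [e, map_add, LinearMap.add_apply, map_smul, map_smul, LinearMap.smul_apply, LinearMap.smul_apply,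
      map_smul, map_smul, LinearMap.smul_apply, LinearMap.smul_apply, hvv, hzv] at h1
    rw [e, map_add, LinearMap.add_apply, map_smul, map_smul, LinearMap.smul_apply, LinearMap.smul_apply,
      map_smul, map_smul, LinearMap.smul_apply, LinearMap.smul_apply, hvz, hzz] at h2
    simp [hε0] at h1 h2
    exact ⟨h2, h1⟩

/-- The rank two piece. -/
theorem nil_piece (hB : B.IsAlt) {g : V ≃ₗ[F] V} (hg : Isom B g) {U : Submodule F V} (hU : NDOn B U)
    (hgU : Stab U g) {ε : F} (hε : ε * ε = 1) {k : ℕ} (hk : 0 < k)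
    (hX : ∀ u ∈ U, (sh g ε ^ k) u = 0) {v : V} (hv : v ∈ U) (hv0 : (sh g ε ^ (k - 1)) v ≠ 0)
    (halt : ∀ u ∈ U, B ((sh g ε ^ (k - 1)) u) u = 0) :
    ∃ N ≤ U, NDOn B N ∧ Stab N g ∧ finrank F N = 2 * k ∧
      ∃ e : Fin ((k + 1) / 2) ⊕ Fin (k / 2) → V, GoodBasis B N g (ε • 1) e ∧
        (∃ w : V, ∀ c, g (Fintype.linearCombination F e c) ∈ Submodule.span F (Set.range e) →
          Fintype.linearCombination F e c ∈ Submodule.span F {w}) ∧
        (k % 2 = 1 → ∃ c, c ≠ 0 ∧ g (Fintype.linearCombination F e c) ∈ Submodule.span F (Set.range e)) := by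
  classical
  set s := k % 2 with hs
  have hcomm : ∀ (a b : ℕ) (w : V), (sh g ε ^ a) ((hi g ^ b) w) = (hi g ^ b) ((sh g ε ^ a) w) := by
    intro a b w
    rw [← Module.End.mul_apply, ((commute_sh_hi g ε).pow_pow a b).eq, Module.End.mul_apply]
  have hsucc : ∀ (j : ℕ) (w : V), sh g ε ((sh g ε ^ j) w) = (sh g ε ^ (j + 1)) w := fun j w => by
    rw [pow_succ', Module.End.mul_apply]
  have hover : ∀ (j m : ℕ) (w : V), w ∈ U → k ≤ j → (sh g ε ^ j) ((hi g ^ m) w) = 0 := by
    intro j m w hw hj
    rw [← Nat.sub_add_cancel hj, pow_add, Module.End.mul_apply, hX _ (hgU.hi hw m), map_zero]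
  -- the functional determining `z`
  let Z : Fin k → V := fun j => (sh g ε ^ (j : ℕ)) ((hi g ^ (((j : ℕ) + s) / 2)) v)
  have hZ : LinearIndependent F Z := by
    rw [Fintype.linearIndependent_iff]
    intro a ha j
    induction hj : (j : ℕ) using Nat.strong_induction_on generalizing j with
    | _ jv ih =>
      subst hj
      have := congrArg (sh g ε ^ (k - 1 - (j : ℕ))) ha
      rw [map_sum, map_zero, Finset.sum_eq_single j, map_smul] at this
      · simp only [Z] at this
        rw [← Module.End.mul_apply, ← pow_add, show k - 1 - (j : ℕ) + j = k - 1 by omega,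
          pow_top hε hk _ (hX v hv), smul_smul] at this
        have hε0 : ε ≠ 0 := fun h0 => one_ne_zero (α := F) (by rw [← hε, h0, mul_zero])
        rcases smul_eq_zero.1 this with h | h
        · simpa [hε0] using h
        · exact absurd h hv0
      · intro j' _ hne
        rcases lt_trichotomy (j' : ℕ) j with h' | h' | h'
        · rw [ih j' h' j' rfl, zero_smul, map_zero]
        · exact absurd (Fin.ext h') hne
        · simp only [map_smul, Z]
          rw [← Module.End.mul_apply, ← pow_add, hover _ _ v hv (by omega), smul_zero]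
      · simp
  obtain ⟨z, hzU, hz⟩ := exists_dual hB hU (e := Z) (fun j => hgU.sh ε (hgU.hi hv _) _) hZ
    (fun j => if (j : ℕ) = k - 1 then ε ^ ((k - 1 + s) / 2) else 0)
  have hεpow : ∀ n : ℕ, ε ^ n * ε ^ n = 1 := fun n => by rw [← mul_pow, hε, one_pow]
  have hvz : B ((sh g ε ^ (k - 1)) v) z = 1 := by
    have := hz ⟨k - 1, by omega⟩
    simp only [Z, if_true] at this
    rw [pow_top hε hk _ (hX v hv), map_smul, LinearMap.smul_apply, smul_eq_mul] at this
    have h2 := congrArg (ε ^ ((k - 1 + s) / 2) * ·) this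
    simp only [← mul_assoc, hεpow, one_mul] at h2
    exact h2
  have hzv : B ((sh g ε ^ (k - 1)) z) v = -1 := by
    have := halt (v + z) (U.add_mem hv hzU)
    simp only [map_add, LinearMap.add_apply, halt v hv, halt z hzU, hvz] at this
    linear_combination this
  have hkill : ∀ m : ℕ, (sh g ε ^ k) ((hi g ^ m) v) = 0 ∧ (sh g ε ^ k) ((hi g ^ m) z) = 0 :=
    fun m => ⟨hover k m v hv le_rfl, hover k m z hzU le_rfl⟩
  -- the subspace
  let W : Fin k ⊕ Fin k → V :=
    Sum.elim (fun j => (sh g ε ^ (j : ℕ)) v) (fun j => (sh g ε ^ (j : ℕ)) z)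
  let Y : Fin k ⊕ Fin k → V :=
    Sum.elim (fun j => (sh g ε ^ (j : ℕ)) ((hi g ^ ((j : ℕ) / 2)) v))
      (fun j => (sh g ε ^ (j : ℕ)) ((hi g ^ (((j : ℕ) - s) / 2)) z))
  set N := Submodule.span F (Set.range W) with hN
  have hWm : ∀ i, W i ∈ N := fun i => Submodule.subset_span ⟨i, rfl⟩
  have hgN : Stab N g := by
    have key : ∀ i, g (W i) ∈ N := by
      rintro (j | j) <;> simp only [W, Sum.elim_inl, Sum.elim_inr]
      all_goals
        first
          | (have e : g ((sh g ε ^ (j : ℕ)) v) = (sh g ε ^ ((j : ℕ) + 1)) v + ε • (sh g ε ^ (j : ℕ)) v := by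
              rw [← hsucc, sh_apply, sub_add_cancel]
             rw [e]
             refine N.add_mem ?_ (N.smul_mem _ (hWm (.inl j)))
             by_cases h : (j : ℕ) + 1 < k
             · exact hWm (.inl ⟨_, h⟩)
             · rw [show (sh g ε ^ ((j : ℕ) + 1)) v = 0 by simpa using hover ((j : ℕ) + 1) 0 v hv (by omega)]
               exact N.zero_mem)
          | (have e : g ((sh g ε ^ (j : ℕ)) z) = (sh g ε ^ ((j : ℕ) + 1)) z + ε • (sh g ε ^ (j : ℕ)) z := by
              rw [← hsucc, sh_apply, sub_add_cancel]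
             rw [e]
             refine N.add_mem ?_ (N.smul_mem _ (hWm (.inr j)))
             by_cases h : (j : ℕ) + 1 < k
             · exact hWm (.inr ⟨_, h⟩)
             · rw [show (sh g ε ^ ((j : ℕ) + 1)) z = 0 by simpa using hover ((j : ℕ) + 1) 0 z hzU (by omega)]
               exact N.zero_mem)
    have : N ≤ N.comap (g : V →ₗ[F] V) := Submodule.span_le.2 (by rintro _ ⟨i, rfl⟩; exact key i)
    exact fun x hx => this hx
  have hvN : v ∈ N := by simpa [W] using hWm (.inl ⟨0, hk⟩)
  have hzN : z ∈ N := by simpa [W] using hWm (.inr ⟨0, hk⟩)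
  have hNU : N ≤ U := Submodule.span_le.2 (by
    rintro _ ⟨i | i, rfl⟩
    · exact hgU.sh ε hv _
    · exact hgU.sh ε hzU _)
  have hYm : ∀ i, Y i ∈ N := by
    rintro (j | j)
    · exact hgN.sh ε (hgN.hi hvN _) _
    · exact hgN.sh ε (hgN.hi hzN _) _
  have hY : LinearIndependent F Y := by
    rw [Fintype.linearIndependent_iff]
    intro a ha
    have hall := low_vanish hε hk hkill (halt v hv) hvz hzv (halt z hzU) (fun j => (j : ℕ) / 2)
      (fun j => ((j : ℕ) - s) / 2) a 0 0 (by rw [← ha, Fintype.sum_sum_type]; rfl)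
      (fun n _ => by simp)
    rintro (j | j)
    · exact (hall j (by simp)).1
    · exact (hall j (by simp)).2
  have hNY : Submodule.span F (Set.range Y) = N := by
    refine Submodule.eq_of_le_of_finrank_le (Submodule.span_le.2 (Set.range_subset_iff.2 hYm)) ?_
    rw [finrank_span_eq_card hY]
    exact finrank_range_le_card W
  have hdim : finrank F N = 2 * k := by
    rw [← hNY, finrank_span_eq_card hY, Fintype.card_sum, Fintype.card_fin]; ring
  have hND : NDOn B N := by
    intro x hx hperp
    have hx' : x ∈ LinearMap.range (Fintype.linearCombination F Y) := by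
      rw [Fintype.range_linearCombination, hNY]; exact hx
    obtain ⟨a, rfl⟩ := hx'
    have hB' : ∀ (n : ℕ) (w : V), w ∈ N → B ((sh g ε ^ n) (Fintype.linearCombination F Y a)) w = 0 := by
      intro n
      induction n with
      | zero => exact fun w hw => by simpa using hperp w hw
      | succ n ih =>
        intro w hw
        rw [← hsucc, (adj_sh hg hε w _).2, ih]
        · ring
        · have h1 := hgN.sh ε hw 1
          have h2 := hgN.hi h1 1
          simpa using h2
    have hall := low_vanish hε hk hkill (halt v hv) hvz hzv (halt z hzU) (fun j => (j : ℕ) / 2)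
      (fun j => ((j : ℕ) - s) / 2) a 0 _ (by rw [Fintype.linearCombination_apply, Fintype.sum_sum_type]; rfl)
      (fun n _ => ⟨hB' n v hvN, hB' n z hzN⟩)
    rw [Fintype.linearCombination_apply]
    refine Finset.sum_eq_zero fun i _ => ?_
    rcases i with j | j
    · rw [(hall j (by simp)).1, zero_smul]
    · rw [(hall j (by simp)).2, zero_smul]
  -- the Lagrangian
  let φ : Fin ((k + 1) / 2) ⊕ Fin (k / 2) → Fin k ⊕ Fin k :=
    Sum.elim (fun i => .inl ⟨2 * i, by omega⟩) (fun i => .inr ⟨2 * i + s, by omega⟩)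
  have hφ : Function.Injective φ := by
    rintro (a | a) (b | b) h <;> simp [φ, Fin.ext_iff] at h
    · exact congrArg Sum.inl (Fin.ext (by omega))
    · exact congrArg Sum.inr (Fin.ext (by omega))
  let Yp : ℕ → Module.End F V := fun n => sh g ε ^ (2 * n) * hi g ^ n
  have hYp : ∀ n, Yp n = aeval (tr g) ((Polynomial.X - C (2 * ε)) ^ n) := fun n => pow_sh_hi g hε n
  have hYp_apply : ∀ n w, Yp n w = (sh g ε ^ (2 * n)) ((hi g ^ n) w) := fun n w => rfl
  have hYpadd : ∀ i j w, Yp i (Yp j w) = Yp (i + j) w := fun i j w => by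
    rw [hYp, hYp, hYp, ← Module.End.mul_apply, ← map_mul, ← pow_add]
  have hYpswap : ∀ i u w, B (Yp i u) w = B u (Yp i w) := fun i u w => by rw [hYp]; exact aeval_swap hg _ u w
  set gen : Bool → V := fun b => bif b then (sh g ε ^ s) z else v with hgen
  have hform : ∀ (b b' : Bool) (n : ℕ), B (Yp n (gen b)) (gen b') = 0 := by
    have cross : ∀ n, B (Yp n v) ((sh g ε ^ s) z) = 0 := by
      intro n
      rcases Nat.mod_two_eq_zero_or_one k with h | h
      · rw [← hs] at h
        rw [h, pow_zero, Module.End.one_apply, hYp_apply]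
        by_cases hn : 2 * n < k
        · have := hz ⟨2 * n, hn⟩
          simp only [Z] at this
          rw [show (2 * n + s) / 2 = n by omega, if_neg (by omega)] at this
          exact this
        · rw [hover _ _ v hv (by omega), map_zero, LinearMap.zero_apply]
      · rw [← hs] at h
        have e1 := hcomm (2 * n + 1) 1 ((hi g ^ n) v)
        rw [pow_one, ← Module.End.mul_apply (hi g), ← pow_succ'] at e1
        rw [h, pow_one, (adj_sh hg hε _ _).1, hYp_apply, hsucc, ← e1, show n + 1 = 1 + n by omega]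
        by_cases hn : 2 * n + 1 < k
        · have := hz ⟨2 * n + 1, hn⟩
          simp only [Z] at this
          rw [show (2 * n + 1 + s) / 2 = 1 + n by omega, if_neg (by omega)] at this
          rw [this, mul_zero]
        · rw [hover _ _ v hv (by omega), map_zero, LinearMap.zero_apply, mul_zero]
    rintro (_ | _) (_ | _) n <;> simp only [gen, cond_false, cond_true]
    · rw [hYp]; exact aeval_alt hB hg _ _
    · exact cross n
    · rw [hYpswap, ← LinearMap.IsAlt.neg hB, cross, neg_zero]
    · rw [hYp]; exact aeval_alt hB hg _ _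
  set e := Y ∘ φ with he
  have hegen : ∀ i, ∃ (n : ℕ) (b : Bool), e i = Yp n (gen b) := by
    rintro (i | i)
    · exact ⟨i, false, by
        simp [e, φ, Y, gen, hYp_apply]⟩
    · refine ⟨i, true, ?_⟩
      simp only [e, φ, Y, gen, Function.comp_apply, Sum.elim_inr, cond_true, hYp_apply]
      rw [show (2 * (i : ℕ) + s - s) / 2 = i by omega, pow_add, Module.End.mul_apply, hcomm s i]
  have hW2 : ∀ i j, B (e i) (e j) = 0 ∧ B (e i) (tr g (e j)) = 0 := by
    intro i j
    obtain ⟨n, b, hn⟩ := hegen i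
    obtain ⟨n', b', hn'⟩ := hegen j
    have h0 : B (e i) (e j) = 0 := by rw [hn, hn', ← hYpswap, hYpadd]; exact hform _ _ _
    refine ⟨h0, ?_⟩
    have h1 : B (e i) (Yp 1 (e j)) = 0 := by rw [hn, hn', hYpadd, ← hYpswap, hYpadd]; exact hform _ _ _
    rw [hYp, pow_one] at h1
    simpa [h0] using h1
  have hlcU : ∀ c, Fintype.linearCombination F e c ∈ N := fun c => by
    rw [Fintype.linearCombination_apply]
    exact N.sum_mem fun i _ => N.smul_mem _ (hYm _)
  have hsym : ∀ c d, B (Fintype.linearCombination F e c) (g (Fintype.linearCombination F e d)) =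
      B (Fintype.linearCombination F e d) (g (Fintype.linearCombination F e c)) := by
    intro c d
    have h0 : B (Fintype.linearCombination F e c) (tr g (Fintype.linearCombination F e d)) = 0 := by
      simp [Fintype.linearCombination_apply, map_sum, (hW2 _ _).2]
    rw [tr_apply, map_add, ← hg.left_eq] at h0
    rw [← LinearMap.IsAlt.neg hB (g (Fintype.linearCombination F e c))]
    linear_combination h0
  -- the image of the Lagrangian under `g - ε`
  let E : Set (Fin k ⊕ Fin k) := {i | Sum.elim (fun j : Fin k => (j : ℕ) % 2 = 0) (fun j : Fin k => (j : ℕ) % 2 = s) i}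
  have hdisj : Disjoint (Submodule.span F (Y '' E)) (Submodule.span F (Y '' Eᶜ)) :=
    hY.disjoint_span_image disjoint_compl_right
  have heE : Submodule.span F (Set.range e) ≤ Submodule.span F (Y '' E) := by
    refine Submodule.span_mono ?_
    rintro _ ⟨i, rfl⟩
    refine ⟨φ i, ?_, rfl⟩
    rcases i with i | i <;> simp [E, φ] <;> omega
  have hXe : ∀ c, sh g ε (Fintype.linearCombination F e c) ∈ Submodule.span F (Y '' Eᶜ) := by
    intro c
    rw [Fintype.linearCombination_apply, map_sum]
    refine Submodule.sum_mem _ fun i _ => ?_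
    rw [map_smul]
    refine Submodule.smul_mem _ _ ?_
    rcases i with i | i <;> simp only [e, φ, Y, Function.comp_apply, Sum.elim_inl, Sum.elim_inr] <;> rw [hsucc]
    · by_cases h : 2 * (i : ℕ) + 1 < k
      · refine Submodule.subset_span ⟨.inl ⟨_, h⟩, ?_, ?_⟩
        · simp [E]
        · simp only [Y, Sum.elim_inl]
          rw [show (2 * (i : ℕ) + 1) / 2 = 2 * i / 2 by omega]
      · rw [hover _ _ v hv (by omega)]; exact Submodule.zero_mem _
    · by_cases h : 2 * (i : ℕ) + s + 1 < k
      · refine Submodule.subset_span ⟨.inr ⟨_, h⟩, ?_, ?_⟩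
        · simp [E]; omega
        · simp only [Y, Sum.elim_inr]
          rw [show (2 * (i : ℕ) + s + 1 - s) / 2 = (2 * i + s - s) / 2 by omega]
      · rw [hover _ _ z hzU (by omega)]; exact Submodule.zero_mem _
  have hker : ∀ c, g (Fintype.linearCombination F e c) ∈ Submodule.span F (Set.range e) →
      sh g ε (Fintype.linearCombination F e c) = 0 := by
    intro c hc
    refine Submodule.disjoint_def.1 hdisj _ (heE ?_) (hXe c)
    rw [sh_apply]
    refine Submodule.sub_mem _ hc (Submodule.smul_mem _ _ ?_)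
    rw [← Fintype.range_linearCombination]; exact ⟨c, rfl⟩
  refine ⟨N, hNU, hND, hgN, hdim, e, ⟨fun i => hYm _, hY.comp φ hφ, ?_, fun i j => (hW2 i j).1, ?_, ?_⟩,
    ⟨(sh g ε ^ (k - 1)) ((hi g ^ ((k - 1) / 2)) v), fun c hc => ?_⟩, fun hodd => ?_⟩
  · rw [hdim, Fintype.card_sum, Fintype.card_fin, Fintype.card_fin]; omega
  · intro c d
    simp only [smul_mulVec, one_mulVec, map_smul, LinearMap.smul_apply]
    rw [hsym]
  · intro c hc
    rw [smul_mulVec, one_mulVec, map_smul, ← sub_eq_zero, ← sh_apply]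
    exact hker c hc
  · have hx0 := hker c hc
    let a : Fin k ⊕ Fin k → F := fun q => ∑ i, if φ i = q then c i else 0
    have hsum : Fintype.linearCombination F e c = ∑ q, a q • Y q := by
      rw [Fintype.linearCombination_apply]
      simp only [a, Finset.sum_smul, ite_smul, zero_smul]
      rw [Finset.sum_comm]
      simp [e]
    have hall := low_vanish hε hk hkill (halt v hv) hvz hzv (halt z hzU) (fun j => (j : ℕ) / 2)
      (fun j => ((j : ℕ) - s) / 2) a 1 (Fintype.linearCombination F e c) (by rw [hsum, Fintype.sum_sum_type]; rfl)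
      (fun n hn => by
        rw [show n = n - 1 + 1 by omega, pow_succ, Module.End.mul_apply, hx0, map_zero]
        simp)
    rw [hsum]
    refine Submodule.sum_mem _ fun q _ => ?_
    rcases q with j | j
    · by_cases h : (j : ℕ) + 1 < k
      · rw [(hall j h).1, zero_smul]; exact Submodule.zero_mem _
      · refine Submodule.smul_mem _ _ (Submodule.subset_span ?_)
        simp only [Y, Sum.elim_inl, Set.mem_singleton_iff]
        rw [show (j : ℕ) = k - 1 by omega]
    · by_cases h : (j : ℕ) + 1 < k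
      · rw [(hall j h).2, zero_smul]; exact Submodule.zero_mem _
      · have : a (.inr j) = 0 := Finset.sum_eq_zero fun i _ => by
          rw [if_neg]
          rcases i with i | i <;> simp [φ, Fin.ext_iff]
          omega
        rw [this, zero_smul]; exact Submodule.zero_mem _
  · refine ⟨Pi.single (.inl ⟨(k - 1) / 2, by omega⟩) 1, by simp, ?_⟩
    rw [Fintype.linearCombination_apply_single, one_smul]
    have : g (e (.inl ⟨(k - 1) / 2, by omega⟩)) = ε • e (.inl ⟨(k - 1) / 2, by omega⟩) := by
      rw [← sub_eq_zero, ← sh_apply]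
      simp only [e, φ, Y, Function.comp_apply, Sum.elim_inl]
      rw [hsucc, hover _ _ v hv (by omega)]
    rw [this]
    exact Submodule.smul_mem _ _ (Submodule.subset_span ⟨_, rfl⟩)

end CfsgLib.SpComm
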