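import Cfsg.Agent.Lib.Classical.SpComm.Nil

/-!
# Existence of a good or negative piece
-/

set_option autoImplicit false
set_option linter.unusedSectionVars false

namespace CfsgLib.SpComm

open Matrix Polynomial Module

variable {F V : Type*} [Field F] [AddCommGroup V] [Module F V] [FiniteDimensional F V]
variable {B : LinearMap.BilinForm F V}

/-- `g` is in the big cell with trivial diagonal part on `U`. -/
def Good1 (B : LinearMap.BilinForm F V) (U : Submodule F V) (g : V ≃ₗ[F] V) : Prop :=
  ∃ (n : ℕ) (e : Fin n → V), GoodBasis B U g 1 e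

/-- A piece carrying an odd Jordan block at `-1`. -/
def NegP (B : LinearMap.BilinForm F V) (N : Submodule F V) (g : V ≃ₗ[F] V) : Prop :=
  (finrank F N = 2 ∧ ∀ x ∈ N, g x = -x) ∨
    ∃ j : ℕ, 1 ≤ j ∧ ∃ e : Fin 2 ⊕ Fin j → V,
      GoodBasis B N g (fromBlocks (-1 : Matrix (Fin 2) (Fin 2) F) 0 0 (1 : Matrix (Fin j) (Fin j) F)) e

theorem GoodBasis.good1 {ι : Type*} [Fintype ι] [DecidableEq ι] {U : Submodule F V} {g : V ≃ₗ[F] V}
    {e : ι → V} (he : GoodBasis B U g 1 e) : Good1 B U g := by
  refine ⟨Fintype.card ι, e ∘ (Fintype.equivFin ι).symm, ?_⟩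
  simpa [submatrix_one_equiv] using he.reindex (Fintype.equivFin ι).symm

theorem GoodBasis.mem_span_of_orth (hB : B.IsAlt) {ι : Type*} [Fintype ι] [DecidableEq ι]
    {U : Submodule F V} (hU : NDOn B U) {g : V ≃ₗ[F] V} {A : Matrix ι ι F} {e : ι → V}
    (he : GoodBasis B U g A e) {x : V} (hx : x ∈ U) (h : ∀ i, B (e i) x = 0) :
    x ∈ Submodule.span F (Set.range e) := by
  obtain ⟨P, hP, hPe⟩ := exists_frame_extend hB hU he.mem he.indep he.card he.iso
  rw [← hP.comb_coord hx, comb, Fintype.linearCombination_apply, Fintype.sum_sum_type]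
  refine Submodule.add_mem _ (Submodule.sum_mem _ fun i _ => ?_) (Submodule.sum_mem _ fun i _ => ?_)
  · rw [hPe]; exact Submodule.smul_mem _ _ (Submodule.subset_span ⟨i, rfl⟩)
  · have : coord B P x (Sum.inr i) = 0 := by
      rw [coord_apply, J, fromBlocks_mulVec]
      have h0 : ∀ j, B x (P (.inl j)) = 0 := fun j => by
        rw [hPe, ← LinearMap.IsAlt.neg hB, h, neg_zero]
      simp [Function.comp_def, h0]
    rw [this, zero_smul]; exact Submodule.zero_mem _

/-- Diagonalising a negative piece. -/
theorem GoodBasis.negP (hB : B.IsAlt) (h2 : (2 : F) ≠ 0) {ι : Type*} [Fintype ι] [DecidableEq ι]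
    {N : Submodule F V} (hN : NDOn B N) {g : V ≃ₗ[F] V} (hg : Isom B g) (hgN : Stab N g) {e : ι → V}
    (he : GoodBasis B N g ((-1 : F) • 1) e) (hcard : 3 ≤ Fintype.card ι)
    (hline : ∃ w : V, ∀ c, g (Fintype.linearCombination F e c) ∈ Submodule.span F (Set.range e) →
      Fintype.linearCombination F e c ∈ Submodule.span F {w})
    (hne : ∃ c, c ≠ 0 ∧ g (Fintype.linearCombination F e c) ∈ Submodule.span F (Set.range e)) :
    NegP B N g := by
  classical
  haveI : Invertible (2 : F) := invertibleOfNonzero h2
  set L := Fintype.linearCombination F e with hL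
  have hinj : Function.Injective L := LinearMap.ker_eq_bot.1 (LinearMap.ker_eq_bot'.2 fun c hc => funext
    (Fintype.linearIndependent_iff.1 he.indep c (by simpa [hL, Fintype.linearCombination_apply] using hc)))
  let Cf : LinearMap.BilinForm F (ι → F) := B.compl₁₂ L ((g : V →ₗ[F] V) ∘ₗ L)
  have hCf : ∀ c d, Cf c d = B (L c) (g (L d)) := fun _ _ => rfl
  have hsymm : LinearMap.BilinForm.IsSymm Cf := ⟨fun c d => by
    have := he.sym c d
    simp only [smul_mulVec, one_mulVec, map_smul, LinearMap.smul_apply, smul_eq_mul, ← hL] at this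
    exact mul_left_cancel₀ (neg_ne_zero.2 one_ne_zero) this⟩
  obtain ⟨b, hb⟩ := LinearMap.BilinForm.exists_orthogonal_basis (B := Cf) ⟨fun c d => hsymm.eq c d⟩
  have horth : ∀ i j, i ≠ j → Cf (b i) (b j) = 0 := fun i j h => hb h
  have hLN : ∀ c, L c ∈ N := fun c => by
    rw [hL, Fintype.linearCombination_apply]
    exact N.sum_mem fun i _ => N.smul_mem _ (he.mem i)
  have hrad : ∀ c, (∀ i, Cf (b i) c = 0) → g (L c) ∈ Submodule.span F (Set.range e) := by
    intro c hc
    refine he.mem_span_of_orth hB hN (hgN _ (hLN c)) fun i => ?_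
    have h1 : Cf.flip c = 0 := b.ext fun j => by simpa using hc j
    have := LinearMap.congr_fun h1 (Pi.single i 1)
    simpa [hCf, hL, Fintype.linearCombination_apply_single] using this
  have hrad' : ∀ c, g (L c) ∈ Submodule.span F (Set.range e) → ∀ d, Cf d c = 0 := by
    intro c hc d
    rw [← Fintype.range_linearCombination] at hc
    obtain ⟨c', hc'⟩ := hc
    rw [hCf, ← hc', hL]
    simp [Fintype.linearCombination_apply, map_sum, he.iso]
  obtain ⟨w, hw⟩ := hline
  obtain ⟨c₀, hc₀, hc₀'⟩ := hne
  obtain ⟨i₀, hi₀⟩ : ∃ i, Cf (b i) (b i) = 0 := by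
    by_contra hall
    push Not at hall
    refine hc₀ ?_
    rw [← b.sum_repr c₀]
    refine Finset.sum_eq_zero fun i _ => ?_
    have h0 := hrad' c₀ hc₀' (b i)
    conv_lhs at h0 => rw [← b.sum_repr c₀]
    rw [map_sum, Finset.sum_eq_single i] at h0
    · rw [map_smul, smul_eq_mul, mul_eq_zero] at h0
      rcases h0 with h0 | h0
      · rw [h0, zero_smul]
      · exact absurd h0 (hall i)
    · intro j _ hji
      rw [map_smul, horth i j (Ne.symm hji), smul_zero]
    · simp
  have hmem : ∀ i, Cf (b i) (b i) = 0 → g (L (b i)) ∈ Submodule.span F (Set.range e) := fun i hi =>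
    hrad _ fun j => by
      by_cases h : j = i
      · rw [h, hi]
      · exact horth j i h
  have huniq : ∀ i, Cf (b i) (b i) = 0 → i = i₀ := by
    intro i hi
    by_contra hne'
    obtain ⟨a, ha⟩ := Submodule.mem_span_singleton.1 (hw _ (hmem i hi))
    obtain ⟨a', ha'⟩ := Submodule.mem_span_singleton.1 (hw _ (hmem i₀ hi₀))
    have : a' • b i + (-a) • b i₀ = 0 := hinj (by
      rw [map_add, map_smul, map_smul, map_zero, ← ha, ← ha', smul_smul, smul_smul, ← add_smul]
      rw [show a' * a + -a * a' = 0 by ring, zero_smul])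
    have hli := LinearIndependent.pair_iff.1 (b.linearIndependent.comp ![i, i₀] (by
      intro x y hxy
      fin_cases x <;> fin_cases y <;> simp_all [eq_comm]) |> fun h => by
        simpa [show ((b : _ → _) ∘ ![i, i₀]) = ![b i, b i₀] by funext x; fin_cases x <;> rfl] using h)
    obtain ⟨-, ha0⟩ := hli _ _ this
    rw [neg_eq_zero.1 ha0, zero_smul] at ha
    exact b.ne_zero i (hinj (by rw [← ha, map_zero]))
  -- the new basis
  have hn : finrank F (ι → F) = Fintype.card ι := Module.finrank_fintype_fun_eq_card F
  obtain ⟨j, hj⟩ : ∃ j, Fintype.card ι = 2 + j := ⟨Fintype.card ι - 2, by omega⟩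
  let σ₀ : Fin 2 ⊕ Fin j ≃ Fin (finrank F (ι → F)) := finSumFinEquiv.trans (finCongr (by omega))
  let σ := σ₀.trans (Equiv.swap (σ₀ (.inl 0)) i₀)
  have hσ : σ (.inl 0) = i₀ := by simp [σ]
  refine .inr ⟨j, by omega, fun t => L (b (σ t)), fun t => hLN _, ?_, ?_, ?_, ?_, ?_⟩
  · exact (b.linearIndependent.comp σ σ.injective).map' L (LinearMap.ker_eq_bot.2 hinj)
  · rw [← he.card, Fintype.card_sum, Fintype.card_fin, Fintype.card_fin, hj]
  · intro s t
    rw [hL]
    simp [Fintype.linearCombination_apply, map_sum, he.iso]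
  all_goals set D := fromBlocks (-1 : Matrix (Fin 2) (Fin 2) F) 0 0 (1 : Matrix (Fin j) (Fin j) F) with hD
  all_goals have hlc : ∀ c, Fintype.linearCombination F (fun t => L (b (σ t))) c = L (∑ t, c t • b (σ t)) :=
    fun c => by simp [Fintype.linearCombination_apply, map_sum]
  all_goals have hDv : ∀ (c : Fin 2 ⊕ Fin j → F) t, (D *ᵥ c) t = Sum.elim (fun _ => (-1 : F)) (fun _ => 1) t * c t :=
    fun c t => by rcases t with t | t <;> simp [hD, fromBlocks_mulVec, neg_mulVec]
  · intro c d
    have key : ∀ c d : Fin 2 ⊕ Fin j → F, B (Fintype.linearCombination F (fun t => L (b (σ t))) (D *ᵥ c))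
        (g (Fintype.linearCombination F (fun t => L (b (σ t))) d)) =
        ∑ t, (D *ᵥ c) t * d t * Cf (b (σ t)) (b (σ t)) := by
      intro c d
      rw [hlc, hlc, ← hCf, map_sum, map_sum]
      refine Finset.sum_congr rfl fun t _ => ?_
      rw [map_smul, LinearMap.sum_apply, Finset.sum_eq_single t]
      · simp only [map_smul, LinearMap.smul_apply, smul_eq_mul]; ring
      · intro t' _ hne'
        rw [map_smul, LinearMap.smul_apply, horth _ _ (σ.injective.ne hne'), smul_zero]
      · simp
    rw [key, key]
    refine Finset.sum_congr rfl fun t _ => ?_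
    rw [hDv, hDv]; ring
  · intro c hc
    rw [hlc] at hc
    have hsub : g (L (∑ t, c t • b (σ t))) ∈ Submodule.span F (Set.range e) := by
      refine (Submodule.span_le.2 ?_) hc
      rintro _ ⟨t, rfl⟩
      rw [← Fintype.range_linearCombination]
      exact ⟨_, rfl⟩
    have hfix := he.fix _ hsub
    rw [smul_mulVec, one_mulVec, map_smul, neg_one_smul] at hfix
    rw [hlc, hlc, hfix, ← map_neg]
    congr 1
    rw [← Finset.sum_neg_distrib]
    refine Finset.sum_congr rfl fun t _ => ?_
    rcases eq_or_ne t (.inl 0) with rfl | ht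
    · rw [hDv]; simp
    · have h0 := hrad' _ hsub (b (σ t))
      rw [map_sum, Finset.sum_eq_single t] at h0
      · rw [map_smul, smul_eq_mul, mul_eq_zero] at h0
        rcases h0 with h0 | h0
        · rw [hDv, h0]; simp
        · exact absurd (σ.injective ((huniq _ h0).trans hσ.symm)) ht
      · intro t' _ hne'
        rw [map_smul, horth _ _ (σ.injective.ne (Ne.symm hne')), smul_zero]
      · simp

/-- A cyclic piece. -/
theorem cyclic_piece (hB : B.IsAlt) {g : V ≃ₗ[F] V} (hg : Isom B g) {U : Submodule F V}
    (hgU : Stab U g) {v : V} (hv : v ∈ U) {μ : F[X]} (hμ : μ.Monic) (hd : 0 < μ.natDegree)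
    (hkill : aeval (tr g) μ v = 0)
    (hcrit : ∀ q : F[X], (∀ l : F[X], B (aeval (tr g) (l * q) v) (g v) = 0) → μ ∣ q) :
    ∃ N ≤ U, N ≠ ⊥ ∧ NDOn B N ∧ Stab N g ∧ Good1 B N g := by
  classical
  set d := μ.natDegree with hd'
  let e : Fin d → V := fun i => (tr g ^ (i : ℕ)) v
  let Q : (Fin d → F) → F[X] := fun c => ∑ i, C (c i) * Polynomial.X ^ (i : ℕ)
  have hQ : ∀ c, aeval (tr g) (Q c) v = Fintype.linearCombination F e c := fun c => by
    simp [Q, e, Fintype.linearCombination_apply, ← Algebra.smul_def]
  have hQ0 : ∀ c, μ ∣ Q c → c = 0 := by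
    intro c hc
    have hlt : (Q c).natDegree < d := by
      rw [← Nat.le_sub_one_iff_lt hd]
      refine natDegree_sum_le_of_forall_le _ _ fun i _ => (natDegree_C_mul_X_pow_le _ _).trans ?_
      omega
    have h0 : Q c = 0 := by
      by_contra hne
      exact absurd (natDegree_le_of_dvd hc hne) (by omega)
    funext i
    have := congrArg (fun q => coeff q (i : ℕ)) h0
    simpa [Q, finsetSum_coeff, coeff_C_mul, coeff_X_pow, Fin.val_inj, Finset.sum_ite_eq] using this
  have hspan : ∀ q : F[X], ∃ c, aeval (tr g) q v = Fintype.linearCombination F e c := by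
    intro q
    refine ⟨fun i => (q %ₘ μ).coeff i, ?_⟩
    have h1 : aeval (tr g) q v = aeval (tr g) (q %ₘ μ) v := by
      conv_lhs => rw [← modByMonic_add_div q μ, mul_comm μ]
      rw [map_add, map_mul, LinearMap.add_apply, Module.End.mul_apply, hkill, map_zero, add_zero]
    rw [h1, aeval_eq_sum_range' (n := d) (natDegree_modByMonic_lt q hμ (fun h => by
      rw [h, natDegree_one] at hd'; omega))]
    simp [Fintype.linearCombination_apply, e, Finset.sum_range]
  have hiso : ∀ c d', B (Fintype.linearCombination F e c) (Fintype.linearCombination F e d') = 0 := by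
    intro c d'
    rw [← hQ, ← hQ, ← aeval_swap hg, ← Module.End.mul_apply, ← map_mul, aeval_alt hB hg]
  have hc2 : ∀ c d', B (Fintype.linearCombination F e c) (g (Fintype.linearCombination F e d')) =
      B (aeval (tr g) (Q d' * Q c) v) (g v) := by
    intro c d'
    rw [← hQ, ← hQ, ← aeval_comm, ← aeval_swap hg, ← Module.End.mul_apply, ← map_mul]
  have hcrit' : ∀ d', (∀ c, B (Fintype.linearCombination F e c) (g (Fintype.linearCombination F e d')) = 0) →
      d' = 0 := by
    intro d' h
    refine hQ0 _ (hcrit _ fun l => ?_)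
    obtain ⟨c, hc⟩ := hspan l
    have := h c
    rw [← hc, ← hQ, ← aeval_comm, ← aeval_swap hg, ← Module.End.mul_apply, ← map_mul, mul_comm] at this
    exact this
  let Y : Fin d ⊕ Fin d → V := Sum.elim e (fun i => g (e i))
  have hYlc : ∀ a : Fin d ⊕ Fin d → F, Fintype.linearCombination F Y a =
      Fintype.linearCombination F e (a ∘ Sum.inl) + g (Fintype.linearCombination F e (a ∘ Sum.inr)) := fun a => by
    simp [Fintype.linearCombination_apply, Fintype.sum_sum_type, Y, map_sum]
  have hmain : ∀ a : Fin d ⊕ Fin d → F,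
      (∀ y, B (Fintype.linearCombination F Y a) (Fintype.linearCombination F Y y) = 0) → a = 0 := by
    intro a h
    have h2' : a ∘ Sum.inr = 0 := hcrit' _ fun c => by
      have := h (Sum.elim c 0)
      rw [hYlc, hYlc] at this
      simp only [Sum.elim_comp_inl, Sum.elim_comp_inr, map_zero, add_zero, map_add, LinearMap.add_apply,
        hiso, zero_add] at this
      rw [← LinearMap.IsAlt.neg hB, this, neg_zero]
    have h1' : a ∘ Sum.inl = 0 := hcrit' _ fun c => by
      have := h (Sum.elim 0 c)
      rw [hYlc, hYlc, h2'] at this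
      simp only [Sum.elim_comp_inl, Sum.elim_comp_inr, map_zero, add_zero, zero_add] at this
      rw [hc2, mul_comm] at this
      rw [hc2]; exact this
    funext i
    rcases i with i | i
    · exact congrFun h1' i
    · exact congrFun h2' i
  have hY : LinearIndependent F Y := by
    rw [Fintype.linearIndependent_iff]
    intro a ha i
    exact congrFun (hmain a fun y => by rw [Fintype.linearCombination_apply F Y a, ha]; simp) i
  set N := Submodule.span F (Set.range Y) with hN
  have hrange : ∀ x, x ∈ N ↔ ∃ a, Fintype.linearCombination F Y a = x := fun x => by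
    rw [hN, ← Fintype.range_linearCombination]; rfl
  have heN : ∀ c, Fintype.linearCombination F e c ∈ N ∧ g (Fintype.linearCombination F e c) ∈ N := fun c =>
    ⟨(hrange _).2 ⟨Sum.elim c 0, by simp [hYlc]⟩, (hrange _).2 ⟨Sum.elim 0 c, by simp [hYlc]⟩⟩
  have heU : ∀ i, e i ∈ U := fun i => by
    have := hgU.aeval ((Polynomial.X : F[X]) ^ (i : ℕ)) hv
    simpa [e] using this
  have hgN : Stab N g := by
    intro x hx
    obtain ⟨a, rfl⟩ := (hrange x).1 hx
    rw [hYlc, map_add]
    refine N.add_mem (heN _).2 ?_
    set c := a ∘ Sum.inr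
    obtain ⟨c', hc'⟩ := hspan (Polynomial.X * Q c)
    rw [map_mul, Module.End.mul_apply, hQ, aeval_X] at hc'
    have e1 : g (g (Fintype.linearCombination F e c)) =
        g (tr g (Fintype.linearCombination F e c)) - Fintype.linearCombination F e c := by
      rw [tr_apply, map_add, g.apply_symm_apply, add_sub_cancel_right]
    rw [e1, hc']
    exact N.sub_mem (heN _).2 (heN _).1
  have hNU : N ≤ U := Submodule.span_le.2 (by
    rintro _ ⟨i | i, rfl⟩
    · exact heU i
    · exact hgU _ (heU i))
  have hND : NDOn B N := by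
    intro x hx h
    obtain ⟨a, rfl⟩ := (hrange x).1 hx
    rw [hmain a fun y => h _ ((hrange _).2 ⟨y, rfl⟩), map_zero]
  have hfr : finrank F N = 2 * d := by
    rw [hN, finrank_span_eq_card hY, Fintype.card_sum, Fintype.card_fin]; ring
  refine ⟨N, hNU, ?_, hND, hgN, d, e, fun i => Submodule.subset_span ⟨.inl i, rfl⟩,
    hY.comp Sum.inl Sum.inl_injective, by rw [hfr, Fintype.card_fin], ?_, ?_, ?_⟩
  · intro hbot
    rw [hbot, finrank_bot] at hfr
    omega
  · intro i j
    have := hiso (Pi.single i 1) (Pi.single j 1)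
    simpa [Fintype.linearCombination_apply_single] using this
  · intro c d'
    rw [one_mulVec, one_mulVec, hc2, hc2, mul_comm]
  · intro c hc
    rw [← Fintype.range_linearCombination] at hc
    obtain ⟨c', hc'⟩ := hc
    rw [hcrit' c fun c'' => by rw [← hc']; exact hiso _ _]
    simp

theorem piece (hB : B.IsAlt) {g : V ≃ₗ[F] V} (hg : Isom B g) :
    ∀ U : Submodule F V, U ≠ ⊥ → NDOn B U → Stab U g →
      ∃ N ≤ U, N ≠ ⊥ ∧ NDOn B N ∧ Stab N g ∧ (Good1 B N g ∨ ((2 : F) ≠ 0 ∧ NegP B N g)) := by
  intro U
  induction hm : finrank F U using Nat.strong_induction_on generalizing U with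
  | _ m ih =>
    subst hm
    intro hne hU hgU
    classical
    have hex : ∃ d, ∃ q : F[X], q.Monic ∧ (∀ u ∈ U, aeval (tr g) q u = 0) ∧ q.natDegree = d :=
      ⟨_, (tr g).charpoly, LinearMap.charpoly_monic _, fun u _ => by
        rw [LinearMap.aeval_self_charpoly, LinearMap.zero_apply], rfl⟩
    obtain ⟨μ, hμ, hμU, hμd⟩ := Nat.find_spec hex
    have hdvd : ∀ q : F[X], (∀ u ∈ U, aeval (tr g) q u = 0) → μ ∣ q := by
      intro q hq
      rw [← modByMonic_eq_zero_iff_dvd hμ]
      by_contra hne0
      have hkill : ∀ u ∈ U, aeval (tr g) (q %ₘ μ) u = 0 := by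
        intro u hu
        have := hq u hu
        conv_lhs at this => rw [← modByMonic_add_div q μ, mul_comm μ]
        rwa [map_add, map_mul, LinearMap.add_apply, Module.End.mul_apply, hμU u hu, map_zero,
          add_zero] at this
      refine absurd (Nat.find_min' hex (m := (q %ₘ μ).natDegree) ⟨q %ₘ μ * C (q %ₘ μ).leadingCoeff⁻¹,
        monic_mul_leadingCoeff_inv hne0, fun u hu => ?_, natDegree_mul_leadingCoeff_inv _ hne0⟩) ?_
      · rw [mul_comm, map_mul, Module.End.mul_apply, hkill u hu, map_zero]
      · rw [← hμd, not_le]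
        refine natDegree_modByMonic_lt q hμ fun h1 => hne ?_
        rw [Submodule.eq_bot_iff]
        intro u hu
        have := hμU u hu
        rwa [h1, map_one, Module.End.one_apply] at this
    have hμpos : 0 < μ.natDegree := Nat.pos_of_ne_zero fun h => hne (by
      rw [Submodule.eq_bot_iff]
      intro u hu
      have := hμU u hu
      rwa [hμ.natDegree_eq_zero.1 h, map_one, Module.End.one_apply] at this)
    obtain ⟨p, hpm, hpi, hpdvd⟩ := exists_monic_irreducible_factor μ
      (fun h => by rw [hμ.isUnit_iff] at h; rw [h, natDegree_one] at hμpos; omega)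
    obtain ⟨n, r, hr, hμeq⟩ := WfDvdMonoid.max_power_factor' hμ.ne_zero hpi.not_isUnit
    have hn : 0 < n := Nat.pos_of_ne_zero fun h => hr (by rwa [hμeq, h, pow_zero, one_mul] at hpdvd)
    have hrm : r.Monic := (hpm.pow n).of_mul_monic_left (hμeq ▸ hμ)
    have hpd : 0 < p.natDegree := hpi.natDegree_pos
    by_cases hrd : 0 < r.natDegree
    · -- coprime splitting
      obtain ⟨s, t, hst⟩ := ((hpi.coprime_iff_not_dvd.2 hr).pow_left : IsCoprime (p ^ n) r)
      let Ua := U ⊓ LinearMap.ker (aeval (tr g) (p ^ n))
      have hmemA : ∀ u ∈ U, aeval (tr g) (t * r) u ∈ Ua := fun u hu =>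
        ⟨hgU.aeval _ hu, LinearMap.mem_ker.2 <| by
          rw [← Module.End.mul_apply, ← map_mul,
            show p ^ n * (t * r) = t * μ by rw [hμeq]; ring, map_mul, Module.End.mul_apply, hμU u hu,
            map_zero]⟩
      have hdec : ∀ u, u = aeval (tr g) (t * r) u + aeval (tr g) (s * p ^ n) u := fun u => by
        rw [← LinearMap.add_apply, ← map_add, add_comm, hst, map_one, Module.End.one_apply]
      have hA : NDOn B Ua := by
        intro x hx h
        refine hU x hx.1 fun y hy => ?_
        rw [hdec y, map_add, h _ (hmemA y hy), zero_add, ← aeval_swap hg, map_mul, Module.End.mul_apply,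
          LinearMap.mem_ker.1 hx.2]
        simp
      have hgA : Stab Ua g := fun x hx => ⟨hgU x hx.1, LinearMap.mem_ker.2 <| by
        rw [aeval_comm, LinearMap.mem_ker.1 hx.2, map_zero]⟩
      have hlt : finrank F Ua < finrank F U := by
        refine Submodule.finrank_lt_finrank_of_lt (lt_of_le_of_ne inf_le_left fun h => ?_)
        have := natDegree_le_of_dvd (hdvd (p ^ n) fun u hu => by
          rw [← h] at hu; exact hu.2) (hpm.pow n).ne_zero
        rw [hμeq, natDegree_mul (hpm.pow n).ne_zero hrm.ne_zero] at this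
        omega
      have hAne : Ua ≠ ⊥ := fun h => by
        have := natDegree_le_of_dvd (hdvd r fun u hu => by
          have h0 : aeval (tr g) (t * r) u = 0 := by
            have := hmemA u hu; rwa [h, Submodule.mem_bot] at this
          have := hdec u
          rw [h0, zero_add] at this
          rw [this, ← Module.End.mul_apply, ← map_mul, show r * (s * p ^ n) = s * μ by rw [hμeq]; ring,
            map_mul, Module.End.mul_apply, hμU u hu, map_zero]) hrm.ne_zero
        rw [hμeq, natDegree_mul (hpm.pow n).ne_zero hrm.ne_zero, natDegree_pow] at this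
        have : 0 < n * p.natDegree := Nat.mul_pos hn hpd
        omega
      obtain ⟨N, hN, rest⟩ := ih _ hlt Ua rfl hAne hA hgA
      exact ⟨N, hN.trans inf_le_left, rest⟩
    · have hr1 : r = 1 := hrm.natDegree_eq_zero.1 (by omega)
      rw [hr1, mul_one] at hμeq
      subst hμeq
      set f := p ^ (n - 1) with hf
      obtain ⟨u₀, hu₀, hfu₀⟩ : ∃ u ∈ U, aeval (tr g) f u ≠ 0 := by
        by_contra hc
        push Not at hc
        have := natDegree_le_of_dvd (hdvd f hc) (hpm.pow _).ne_zero
        rw [hf, natDegree_pow, natDegree_pow] at this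
        have : (n - 1) * p.natDegree < n * p.natDegree := Nat.mul_lt_mul_of_pos_right (by omega) hpd
        omega
      by_cases hA : ∃ v ∈ U, ∃ a : F[X], B (aeval (tr g) (a * f) v) (g v) ≠ 0
      · obtain ⟨v, hv, a, hva⟩ := hA
        obtain ⟨N, hN, hN0, hND, hgN, hgood⟩ := cyclic_piece hB hg hgU hv hμ hμpos (hμU v hv) (fun q hq => by
          by_contra hnd
          obtain ⟨j, hjn, hassoc⟩ := (dvd_prime_pow hpi.prime n).1 (EuclideanDomain.gcd_dvd_right q (p ^ n) :
            EuclideanDomain.gcd q (p ^ n) ∣ p ^ n)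
          have hjn' : j ≤ n - 1 := by
            by_contra hj
            rw [show j = n by omega] at hassoc
            exact hnd (hassoc.symm.dvd.trans (EuclideanDomain.gcd_dvd_left _ _))
          obtain ⟨w, hw⟩ : EuclideanDomain.gcd q (p ^ n) ∣ a * f :=
            (hassoc.dvd.trans (pow_dvd_pow p hjn')).mul_left a
          rw [EuclideanDomain.gcd_eq_gcd_ab] at hw
          refine hva ?_
          rw [hw, show (q * EuclideanDomain.gcdA q (p ^ n) + p ^ n * EuclideanDomain.gcdB q (p ^ n)) * w =
            (w * EuclideanDomain.gcdA q (p ^ n)) * q + (EuclideanDomain.gcdB q (p ^ n) * w) * p ^ n by ring,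
            map_add, map_mul _ _ (p ^ n), LinearMap.add_apply, Module.End.mul_apply, hμU v hv, map_zero,
            add_zero]
          exact hq _)
        exact ⟨N, hN, hN0, hND, hgN, .inl hgood⟩
      push Not at hA
      have h1 : ∀ u ∈ U, B (aeval (tr g) f u) (g u) = 0 := fun u hu => by simpa using hA u hu 1
      have hinvol : ∀ w ∈ U, g (aeval (tr g) f w) = g.symm (aeval (tr g) f w) := by
        intro w hw
        rw [← sub_eq_zero]
        refine ndOn_swap hB hU (U.sub_mem (hgU _ (hgU.aeval _ hw)) (hgU.symm _ (hgU.aeval _ hw))) fun u hu => ?_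
        have h3 := h1 (u + w) (U.add_mem hu hw)
        simp only [map_add, LinearMap.add_apply, h1 u hu, h1 w hw, zero_add, add_zero] at h3
        rw [map_sub, ← hg.left_eq, ← aeval_comm g f w, ← aeval_swap hg]
        rw [← LinearMap.IsAlt.neg hB (aeval (tr g) f w) (g u)]
        linear_combination h3
      set y := aeval (tr g) f u₀ with hy
      have hTy : tr g y = (2 : F) • g y := by
        rw [tr_apply, ← hinvol u₀ hu₀, two_smul]
      have hpy : aeval (tr g) p y = 0 := by
        rw [hy, ← Module.End.mul_apply, ← map_mul, hf, ← pow_succ', Nat.sub_add_cancel hn, hμU u₀ hu₀]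
      have hTTy : aeval (tr g) ((Polynomial.X - C (2 : F)) * (Polynomial.X + C 2)) y = 0 := by
        have hgg : g (g y) = y := by rw [hinvol u₀ hu₀, g.apply_symm_apply]
        simp only [map_mul, Module.End.mul_apply, map_add, map_sub, aeval_X, aeval_C, LinearMap.add_apply,
          LinearMap.sub_apply, Module.algebraMap_end_apply, map_smul, hTy, tr_comm, hgg]
        module
      obtain ⟨ε, hε, hp⟩ : ∃ ε : F, ε * ε = 1 ∧ p = Polynomial.X - C (2 * ε) := by
        have hd1 : p ∣ (Polynomial.X - C (2 : F)) * (Polynomial.X + C 2) := by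
          by_contra hnd
          obtain ⟨s, t, hst⟩ := hpi.coprime_iff_not_dvd.2 hnd
          refine hfu₀ ?_
          rw [← Module.End.one_apply (R := F) y, ← map_one (aeval (R := F) (tr g)), ← hst, map_add, map_mul, map_mul,
            LinearMap.add_apply, Module.End.mul_apply, Module.End.mul_apply, hpy, hTTy, map_zero, map_zero,
            add_zero]
        rcases hpi.prime.dvd_or_dvd hd1 with h | h
        · refine ⟨1, one_mul 1, ?_⟩
          rw [mul_one]
          exact eq_of_monic_of_associated hpm (monic_X_sub_C _)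
            (hpi.associated_of_dvd (irreducible_X_sub_C _) h)
        · refine ⟨-1, by ring, ?_⟩
          rw [show (Polynomial.X : F[X]) - C (2 * -1) = Polynomial.X + C 2 by simp]
          exact eq_of_monic_of_associated hpm (monic_X_add_C _)
            (hpi.associated_of_dvd (by
              have := irreducible_X_sub_C (-2 : F)
              simpa using this) h)
      subst hp
      have hX2 : ∀ u ∈ U, (sh g ε ^ (2 * n)) u = 0 := by
        intro u hu
        have hinv : hi g * (g : V →ₗ[F] V) = 1 := LinearMap.ext fun x => g.symm_apply_apply x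
        have hc : Commute (hi g) (g : V →ₗ[F] V) := LinearMap.ext fun x => by
          simp [Module.End.mul_apply, hi_apply]
        have hu' : (hi g ^ n) (((g : V →ₗ[F] V) ^ n) u) = u := by
          rw [← Module.End.mul_apply, ← hc.mul_pow, hinv, one_pow, Module.End.one_apply]
        have hgnu : ((g : V →ₗ[F] V) ^ n) u ∈ U := by
          clear hu'
          induction n generalizing u with
          | zero => simpa using hu
          | succ n _ =>
            have : ∀ m : ℕ, ((g : V →ₗ[F] V) ^ m) u ∈ U := fun m => by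
              induction m with
              | zero => simpa using hu
              | succ m ihm => rw [pow_succ', Module.End.mul_apply]; exact hgU _ ihm
            exact this _
        rw [← hu', ← Module.End.mul_apply, pow_sh_hi g hε n]
        exact hμU _ hgnu
      have hε0 : ε ≠ 0 := fun h0 => one_ne_zero (α := F) (by rw [← hε, h0, mul_zero])
      have hεp : ∀ i : ℕ, ε ^ i * ε ^ i = 1 := fun i => by rw [← mul_pow, hε, one_pow]
      have htop : ∀ u ∈ U, (sh g ε ^ (2 * n - 1)) u = ε ^ (n - 1) • sh g ε (aeval (tr g) f u) := by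
        intro u hu
        rw [hf, ← pow_sh_hi g hε (n - 1), ← Module.End.mul_apply (sh g ε), ← mul_assoc, ← pow_succ',
          show 2 * (n - 1) + 1 = 2 * n - 1 by omega, Module.End.mul_apply,
          pow_top hε (by omega) (n - 1) (hX2 u hu), smul_smul, hεp, one_smul]
      by_cases hk : ∀ u ∈ U, (sh g ε ^ (2 * n - 1)) u = 0
      · have heq : ∀ u ∈ U, (sh g ε ^ (2 * n - 1 - 1)) u =
            ε ^ (n - 1) • aeval (tr g) f u := by
          intro u hu
          rw [hf, ← pow_sh_hi g hε (n - 1), Module.End.mul_apply, show 2 * (n - 1) = 2 * n - 1 - 1 by omega,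
            pow_top hε (by omega) (n - 1) (hk u hu), smul_smul, hεp, one_smul]
        obtain ⟨N, hN, hND, hgN, hfr, e, he, hline, hodd⟩ := nil_piece hB hg hU hgU hε
          (k := 2 * n - 1) (by omega) hk hu₀ (by
            rw [heq u₀ hu₀]; exact smul_ne_zero (pow_ne_zero _ hε0) hfu₀)
          (fun u hu => by
            rw [heq u hu, map_smul, LinearMap.smul_apply, aeval_alt hB hg, smul_zero])
        have hNne : N ≠ ⊥ := fun h => by rw [h, finrank_bot] at hfr; omega
        refine ⟨N, hN, hNne, hND, hgN, ?_⟩
        by_cases hε1 : ε = 1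
        · subst hε1; rw [one_smul] at he; exact .inl he.good1
        · have hεm : ε = -1 := (mul_self_eq_one_iff.1 hε).resolve_left hε1
          subst hεm
          have h2 : (2 : F) ≠ 0 := fun h => hε1 (by linear_combination -h)
          refine .inr ⟨h2, ?_⟩
          rcases Nat.lt_or_ge n 2 with h | h
          · have hn1 : n = 1 := by omega
            subst hn1
            refine .inl ⟨by rw [hfr], fun x hx => ?_⟩
            have := hk x (hN hx)
            rw [show 2 * 1 - 1 = 1 from rfl, pow_one, sh_apply, sub_eq_zero, neg_one_smul] at this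
            exact this
          · exact he.negP hB h2 hND hg hgN (by simp; omega) hline (hodd (by omega))
      · push Not at hk
        obtain ⟨v₀, hv₀, hv₀'⟩ := hk
        have hε1 : ε = 1 := by
          by_contra hne1
          have hεm : ε = -1 := (mul_self_eq_one_iff.1 hε).resolve_left hne1
          have h2 : (2 : F) ≠ 0 := fun h => hne1 (by rw [hεm]; linear_combination -h)
          refine hv₀' ?_
          rw [htop v₀ hv₀]
          have hz : aeval (tr g) (Polynomial.X - C (2 * ε)) (aeval (tr g) f v₀) = 0 := by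
            rw [← Module.End.mul_apply, ← map_mul, hf, ← pow_succ', Nat.sub_add_cancel hn, hμU v₀ hv₀]
          rw [map_sub, aeval_X, aeval_C, LinearMap.sub_apply, Module.algebraMap_end_apply, tr_apply,
            ← hinvol v₀ hv₀, ← two_smul F, mul_smul, ← smul_sub, smul_eq_zero] at hz
          rw [sh_apply, hz.resolve_left h2, smul_zero]
        subst hε1
        obtain ⟨N, hN, hND, hgN, hfr, e, he, -, -⟩ := nil_piece hB hg hU hgU hε
          (k := 2 * n) (by omega) hX2 hv₀ hv₀'
          (fun u hu => by
            rw [htop u hu, map_smul, LinearMap.smul_apply, sh_apply, one_smul, map_sub, LinearMap.sub_apply,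
              aeval_alt hB hg, sub_zero, ← aeval_comm, aeval_swap hg, ← LinearMap.IsAlt.neg hB, h1 u hu,
              neg_zero, smul_zero])
        have hNne : N ≠ ⊥ := fun h => by rw [h, finrank_bot] at hfr; omega
        rw [one_smul] at he
        exact ⟨N, hN, hNne, hND, hgN, .inl he.good1⟩

end CfsgLib.SpComm
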