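import Cfsg.Agent.Lib.Classical.SpComm.Good

/-!
# The self-adjoint operator `g + g⁻¹` and orthogonal splittings
-/

set_option autoImplicit false
set_option linter.unusedSectionVars false

namespace CfsgLib.SpComm

open Matrix Polynomial Module

variable {F V : Type*} [Field F] [AddCommGroup V] [Module F V] [FiniteDimensional F V]
variable {B : LinearMap.BilinForm F V}

/-- `g + g⁻¹`. -/
def tr (g : V ≃ₗ[F] V) : Module.End F V := (g : V →ₗ[F] V) + (g.symm : V →ₗ[F] V)

theorem tr_apply (g : V ≃ₗ[F] V) (x : V) : tr g x = g x + g.symm x := rfl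

theorem Isom.left_eq {g : V ≃ₗ[F] V} (hg : Isom B g) (u w : V) : B (g u) w = B u (g.symm w) := by
  conv_lhs => rw [← g.apply_symm_apply w, hg]

theorem Isom.left_eq' {g : V ≃ₗ[F] V} (hg : Isom B g) (u w : V) : B (g.symm u) w = B u (g w) := by
  conv_rhs => rw [← g.apply_symm_apply u, hg]

theorem tr_swap {g : V ≃ₗ[F] V} (hg : Isom B g) (u w : V) : B (tr g u) w = B u (tr g w) := by
  simp only [tr_apply, map_add, LinearMap.add_apply, hg.left_eq, hg.left_eq']
  ring

theorem tr_comm (g : V ≃ₗ[F] V) (x : V) : tr g (g x) = g (tr g x) := by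
  simp [tr_apply]

theorem aeval_comm (g : V ≃ₗ[F] V) (p : F[X]) (x : V) : aeval (tr g) p (g x) = g (aeval (tr g) p x) := by
  induction p using Polynomial.induction_on' generalizing x with
  | add p q hp hq => simp [hp, hq]
  | monomial n c =>
    simp only [aeval_monomial, ← Algebra.smul_def, LinearMap.smul_apply, map_smul]
    congr 1
    induction n generalizing x with
    | zero => simp
    | succ n ih => rw [pow_succ, Module.End.mul_apply, Module.End.mul_apply, tr_comm, ih]

theorem aeval_swap {g : V ≃ₗ[F] V} (hg : Isom B g) (p : F[X]) (u w : V) :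
    B (aeval (tr g) p u) w = B u (aeval (tr g) p w) := by
  induction p using Polynomial.induction_on' with
  | add p q hp hq => simp [hp, hq]
  | monomial n c =>
    simp only [aeval_monomial, ← Algebra.smul_def, LinearMap.smul_apply, map_smul,
      LinearMap.smul_apply]
    congr 1
    induction n generalizing w with
    | zero => simp
    | succ n ih =>
      conv_lhs => rw [pow_succ', Module.End.mul_apply, tr_swap hg, ih]
      rw [pow_succ, Module.End.mul_apply]

theorem aeval_alt (hB : B.IsAlt) {g : V ≃ₗ[F] V} (hg : Isom B g) (p : F[X]) (u : V) :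
    B (aeval (tr g) p u) u = 0 := by
  induction p using Polynomial.induction_on' with
  | add p q hp hq => simp [hp, hq]
  | monomial n c =>
    suffices ∀ u, B ((tr g ^ n) u) u = 0 by simp [aeval_monomial, ← Algebra.smul_def, this u]
    induction n using Nat.twoStepInduction with
    | zero => intro u; simpa using hB u
    | one =>
      intro u
      rw [pow_one, tr_apply, map_add, LinearMap.add_apply, hg.left_eq, ← LinearMap.IsAlt.neg hB (g.symm u) u,
        neg_add_cancel]
    | more n ih _ =>
      intro u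
      have := ih (tr g u)
      rw [← tr_swap hg] at this
      rw [pow_succ, pow_succ', Module.End.mul_apply, Module.End.mul_apply]
      exact this

theorem Stab.symm {U : Submodule F V} {g : V ≃ₗ[F] V} (hgU : Stab U g) : Stab U g.symm := by
  intro x hx
  have : U.map (g : V →ₗ[F] V) = U :=
    Submodule.eq_of_le_of_finrank_le (by rintro _ ⟨y, hy, rfl⟩; exact hgU y hy)
      (LinearEquiv.finrank_map_eq g U).ge
  rw [← this] at hx
  obtain ⟨y, hy, rfl⟩ := hx
  simpa using hy

theorem Stab.tr {U : Submodule F V} {g : V ≃ₗ[F] V} (hgU : Stab U g) {x : V} (hx : x ∈ U) :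
    SpComm.tr g x ∈ U := U.add_mem (hgU x hx) (hgU.symm x hx)

theorem Stab.aeval {U : Submodule F V} {g : V ≃ₗ[F] V} (hgU : Stab U g) (p : F[X]) {x : V}
    (hx : x ∈ U) : Polynomial.aeval (SpComm.tr g) p x ∈ U := by
  induction p using Polynomial.induction_on' with
  | add p q hp hq => rw [map_add, LinearMap.add_apply]; exact U.add_mem hp hq
  | monomial n c =>
    simp only [aeval_monomial, ← Algebra.smul_def, LinearMap.smul_apply]
    refine U.smul_mem _ ?_
    induction n with
    | zero => simpa using hx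
    | succ n ih => rw [pow_succ', Module.End.mul_apply]; exact hgU.tr ih

/-- Splitting off a nondegenerate subspace. -/
theorem split_off (hB : B.IsAlt) {U N : Submodule F V} (hU : NDOn B U) (hN : NDOn B N) (hNU : N ≤ U)
    {g : V ≃ₗ[F] V} (hg : Isom B g) (hgU : Stab U g) (hgN : Stab N g) :
    NDOn B (U ⊓ perp B N) ∧ Stab (U ⊓ perp B N) g ∧ N ⊔ (U ⊓ perp B N) = U ∧
      (∀ x ∈ N, ∀ y ∈ U ⊓ perp B N, B x y = 0) ∧
      finrank F N + finrank F ↥(U ⊓ perp B N) = finrank F U := by
  have horth : ∀ x ∈ N, ∀ y ∈ U ⊓ perp B N, B x y = 0 := fun x hx y hy => by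
    rw [← LinearMap.IsAlt.neg hB, hy.2 x hx, neg_zero]
  have hsplit : N ⊔ (U ⊓ perp B N) = U := by
    refine le_antisymm (sup_le hNU inf_le_left) fun x hx => ?_
    let b := Module.finBasis F N
    obtain ⟨n, hn, hn'⟩ := exists_dual hB hN (e := fun i => (b i : V)) (fun i => (b i).2)
      (b.linearIndependent.map' N.subtype (Submodule.ker_subtype N)) (fun i => B (b i) x)
    have : x - n ∈ perp B N := by
      intro u hu
      have h1 : (B.flip (x - n)).comp N.subtype = 0 := b.ext fun i => by simp [hn' i]
      have h2 : B u (x - n) = 0 := LinearMap.congr_fun h1 ⟨u, hu⟩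
      rw [← LinearMap.IsAlt.neg hB, h2, neg_zero]
    exact Submodule.mem_sup.2 ⟨n, hn, x - n, ⟨U.sub_mem hx (hNU hn), this⟩, by abel⟩
  refine ⟨fun x hx h => ?_, fun x hx => ⟨hgU x hx.1, fun u hu => ?_⟩, hsplit, horth, ?_⟩
  · refine hU x hx.1 fun y hy => ?_
    rw [← hsplit] at hy
    obtain ⟨n, hn, m, hm, rfl⟩ := Submodule.mem_sup.1 hy
    rw [map_add, hx.2 n hn, h m hm, add_zero]
  · rw [hg.left_eq]
    exact hx.2 _ (hgN.symm u hu)
  · rw [← (finrank_sup_of_orth hB hN horth).1, hsplit]

end CfsgLib.SpComm
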